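import Mathlib
import Cfsg.Prelude.Def_Transfer
import Cfsg.Agent.Transfer.Frobenius
import Cfsg.Agent.SpecFive.Odd
import Cfsg.Agent.Components.Cores
import Cfsg.Agent.OddChar.PF.OddOrder

/-!
# One class of `p`-elements with `p`-nilpotent centralisers

If all non-identity `p`-elements of a finite group are conjugate and their centralisers have normal
`p`-complements, then the Sylow `p`-subgroups are elementary abelian.

If a Sylow subgroup is not abelian, some `p`-subgroup `Q` has an automiser `X` with more than one Sylow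
`p`-subgroup. The `p'`-elements of `X` are fixed-point-free on `Q` and commute with no `p`-element of `X`.
An involution would invert `Q` and be central, so `X` has odd order and is soluble; then an element of
order `p` normalises a `q`-subgroup of `X` with the Frobenius property, which is impossible in exponent `p`.
-/

set_option autoImplicit false
set_option linter.unusedSectionVars false
set_option linter.style.haveILetI false

namespace Cfsg.Lib.OneClass

open Subgroup

universe u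

variable {G : Type u} [Group G] [Finite G] {p : ℕ} [hp : Fact p.Prime]

/-- All `p`-elements apart from `1` are conjugate and have `p`-nilpotent centralisers. -/
structure Hyp (G : Type u) [Group G] (p : ℕ) : Prop where
  conj : ∀ x y : G, x ≠ 1 → y ≠ 1 → (∃ k, orderOf x = p ^ k) → (∃ k, orderOf y = p ^ k) → IsConj x y
  npc : ∀ u : G, u ≠ 1 → (∃ k, orderOf u = p ^ k) →
    Cfsg.HasNormalPComplement p (centralizer ({u} : Set G))

omit [Finite G] in
lemma pel_of_mem {Q : Subgroup G} (hQ : IsPGroup p Q) {u : G} (hu : u ∈ Q) :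
    ∃ k, orderOf u = p ^ k := by
  obtain ⟨k, hk⟩ := IsPGroup.iff_orderOf.1 hQ ⟨u, hu⟩
  exact ⟨k, by rwa [Subgroup.orderOf_mk] at hk⟩

theorem Hyp.pow_prime (h : Hyp G p) {u : G} (hu : ∃ k, orderOf u = p ^ k) : u ^ p = 1 := by
  by_contra hne
  have hu1 : u ≠ 1 := fun e => hne (by simp [e])
  obtain ⟨k, hk⟩ := hu
  have hk0 : k ≠ 0 := fun e => hu1 (orderOf_eq_one_iff.1 (by rw [hk, e, pow_zero]))
  have hd : p ∣ orderOf u := hk ▸ dvd_pow_self p hk0
  have ho : orderOf (u ^ p) = orderOf u / p := by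
    rw [orderOf_pow' _ hp.out.ne_zero, Nat.gcd_eq_right hd]
  obtain ⟨c, hc⟩ := isConj_iff.1 (h.conj u (u ^ p) hu1 hne ⟨k, hk⟩
    ((Nat.dvd_prime_pow hp.out).1 (by rw [← hk, ho]; exact Nat.div_dvd_of_dvd hd) |>.imp
      fun i hi => hi.2))
  have : orderOf u = orderOf (u ^ p) := by
    rw [← hc]
    exact ((MulAut.conj c).orderOf_eq u).symm
  rw [ho] at this
  exact (Nat.div_lt_self (orderOf_pos u) hp.out.one_lt).ne this.symm

/-- A `p'`-element normalising a `p`-subgroup and fixing one of its non-identity elements centralises it. -/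
theorem Hyp.fix (h : Hyp G p) {Q : Subgroup G} (hQ : IsPGroup p Q) {g : G}
    (hg : g ∈ normalizer (Q : Set G)) (hcop : (orderOf g).Coprime p) {u : G} (hu : u ∈ Q)
    (hu1 : u ≠ 1) (hfix : Commute g u) : g ∈ centralizer (Q : Set G) := by
  have step : ∀ u ∈ Q, u ≠ 1 → Commute g u → ∀ v ∈ Q, Commute u v → Commute g v := by
    intro u hu hu1 hgu v hv huv
    set C := centralizer ({u} : Set G) with hC
    have hgC : g ∈ C := mem_centralizer_singleton_iff.2 hgu.eq
    have hvC : v ∈ C := mem_centralizer_singleton_iff.2 huv.symm.eq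
    have hgn : (⟨g, hgC⟩ : C) ∈ normalizer ((Q.subgroupOf C : Subgroup C) : Set C) :=
      mem_normalizer_iff.2 fun w => by
        simp only [mem_subgroupOf, coe_mul, coe_inv]
        exact mem_normalizer_iff.1 hg w
    have := Cfsg.Lib.Transfer.centralize_of_hasNormalPComplement (h.npc u hu1 (pel_of_mem hQ hu))
      (Q.subgroupOf C) hQ.comap_subtype ⟨g, hgC⟩ hgn (by rwa [Subgroup.orderOf_mk])
    have e := mem_centralizer_iff.1 this ⟨v, hvC⟩ hv
    exact (congrArg Subtype.val e).symm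
  haveI : Nontrivial Q := ⟨⟨⟨u, hu⟩, 1, fun e => hu1 (congrArg Subtype.val e)⟩⟩
  haveI := hQ.center_nontrivial
  obtain ⟨⟨⟨z, hzQ⟩, hz⟩, hz1⟩ := exists_ne (1 : center Q)
  have hz1' : z ≠ 1 := fun e => hz1 (Subtype.ext (Subtype.ext e))
  have hzc : ∀ v ∈ Q, Commute z v := fun v hv =>
    (congrArg Subtype.val (mem_center_iff.1 hz ⟨v, hv⟩)).symm
  have hgz := step u hu hu1 hfix z hzQ (hzc u hu).symm
  exact mem_centralizer_iff.2 fun v hv => (step z hzQ hz1' hgz v hv (hzc v hv)).symm.eq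

section automiser

variable (Q : Subgroup G)

/-- The normaliser of `Q`. -/
abbrev NQ : Subgroup G := Subgroup.normalizer (Q : Set G)

/-- The centraliser of `Q` in its normaliser. -/
abbrev CQ : Subgroup (NQ Q) := (Subgroup.centralizer (Q : Set G)).subgroupOf (NQ Q)

instance normal_cq : (CQ Q).Normal := by
  constructor
  intro c hc n
  rw [mem_subgroupOf, mem_centralizer_iff] at hc ⊢
  intro v hv
  have hv' : (n : G)⁻¹ * v * n ∈ Q := by
    have := (mem_normalizer_iff.1 n.2 ((n : G)⁻¹ * v * n)).2 (by simpa [mul_assoc] using hv)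
    exact this
  have e := hc _ hv'
  push_cast
  calc v * ((n : G) * c * (n : G)⁻¹) = n * ((n : G)⁻¹ * v * n * c) * (n : G)⁻¹ := by group
    _ = n * ((c : G) * ((n : G)⁻¹ * v * n)) * (n : G)⁻¹ := by rw [e]
    _ = _ := by group

/-- The automiser of `Q`. -/
abbrev Aut' := NQ Q ⧸ CQ Q

/-- The map to the automiser. -/
abbrev pr : NQ Q →* Aut' Q := QuotientGroup.mk' (CQ Q)

variable {Q}

lemma pi_eq_one_iff {n : (NQ Q)} : pr Q n = 1 ↔ (n : G) ∈ centralizer (Q : Set G) := by
  rw [QuotientGroup.mk'_apply, QuotientGroup.eq_one_iff, mem_subgroupOf]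

/-- Lifting an element to commuting parts of `p`-power and prime to `p` order. -/
lemma lift_parts {x y : Aut' Q} (hxy : Commute x y) (hx : (orderOf x).Coprime p)
    (hy : ∃ k, orderOf y = p ^ k) {z : (NQ Q)} (hz : pr Q z = x * y) :
    ∃ a b : (NQ Q), a ∈ zpowers z ∧ b ∈ zpowers z ∧ Commute a b ∧ (∃ k, orderOf (a : G) = p ^ k) ∧
      (orderOf (b : G)).Coprime p ∧ pr Q a = y ∧ pr Q b = x := by
  obtain ⟨a, b, ha, hb, hab, ⟨k, hk⟩, hcop⟩ := Cfsg.Lib.Transfer.exists_pPart p z
  have hcab : Commute a b := by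
    obtain ⟨i, rfl⟩ := ha; obtain ⟨j, rfl⟩ := hb
    exact Commute.zpow_zpow_self z i j
  have hcz : ∀ c ∈ zpowers z, Commute (pr Q c) x ∧ Commute (pr Q c) y := by
    rintro _ ⟨i, rfl⟩
    constructor <;> (rw [map_zpow, hz]; refine Commute.zpow_left ?_ i)
    · exact (Commute.refl x).mul_left hxy.symm
    · exact hxy.mul_left (Commute.refl y)
  obtain ⟨m, hm⟩ := hy
  have e : (pr Q b)⁻¹ * x = pr Q a * y⁻¹ := by
    have h1 : pr Q a * pr Q b = x * y := by rw [← map_mul, hab, hz]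
    have h2 : x * y = y * x := hxy.eq
    have h3 : pr Q a * pr Q b = pr Q b * pr Q a := by rw [← map_mul, hcab.eq, map_mul]
    calc (pr Q b)⁻¹ * x = (pr Q b)⁻¹ * (x * y) * y⁻¹ := by group
      _ = (pr Q b)⁻¹ * (pr Q b * pr Q a) * y⁻¹ := by rw [← h3, h1]
      _ = _ := by group
  have hL : (orderOf ((pr Q b)⁻¹ * x)).Coprime p := by
    refine Nat.Coprime.coprime_dvd_left (Commute.orderOf_mul_dvd_mul_orderOf
      ((hcz b hb).1.inv_left)) (Nat.Coprime.mul_left ?_ hx)
    rw [orderOf_inv]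
    exact Nat.Coprime.coprime_dvd_left (orderOf_map_dvd _ _) hcop
  have hR : orderOf (pr Q a * y⁻¹) ∣ p ^ k * p ^ m := by
    refine ((hcz a ha).2.inv_right.orderOf_mul_dvd_mul_orderOf).trans (mul_dvd_mul ?_ ?_)
    · exact (orderOf_map_dvd _ _).trans hk.dvd
    · rw [orderOf_inv, hm]
  rw [← pow_add] at hR
  have h1 : orderOf ((pr Q b)⁻¹ * x) = 1 :=
    Nat.eq_one_of_dvd_coprimes (hL.pow_right (k + m)) dvd_rfl (e ▸ hR)
  refine ⟨a, b, ha, hb, hcab, ⟨k, by rwa [Subgroup.orderOf_coe]⟩,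
    by rwa [Subgroup.orderOf_coe], ?_, ?_⟩
  · rw [orderOf_eq_one_iff, e, mul_inv_eq_one] at h1
    exact h1
  · rw [orderOf_eq_one_iff, inv_mul_eq_one] at h1
    exact h1

/-- A `p'`-element of the automiser other than `1` fixes no non-identity element of `Q`. -/
lemma fpf (h : Hyp G p) (hQ : IsPGroup p Q) {n : (NQ Q)} (hn : (orderOf (pr Q n)).Coprime p) {u : G}
    (hu : u ∈ Q) (hu1 : u ≠ 1) (hfix : Commute (n : G) u) : pr Q n = 1 := by
  obtain ⟨a, b, ha, hb, -, -, hbcop, -, hb'⟩ := lift_parts (x := pr Q n) (y := 1)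
    (Commute.one_right _) hn ⟨0, by simp⟩ (z := n) (by rw [mul_one])
  obtain ⟨i, rfl⟩ := hb
  rw [← hb', pi_eq_one_iff]
  refine h.fix hQ (n ^ i).2 hbcop hu hu1 ?_
  push_cast
  exact hfix.zpow_left i

/-- A `p'`-element and a `p`-element of the automiser, both non-identity, do not commute. -/
lemma not_commute (h : Hyp G p) (hQ : IsPGroup p Q) {x y : Aut' Q} (hx : (orderOf x).Coprime p)
    (hy : ∃ k, orderOf y = p ^ k) (hy1 : y ≠ 1) (hxy : Commute x y) : x = 1 := by
  obtain ⟨z, hz⟩ := QuotientGroup.mk'_surjective (CQ Q) (x * y)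
  obtain ⟨a, b, -, -, hab, ⟨k, hk⟩, hbcop, hay, hbx⟩ := lift_parts hxy hx hy hz
  rw [← hbx, pi_eq_one_iff]
  have ha1 : (a : G) ≠ 1 := fun e => hy1 (by rw [← hay, show a = 1 from Subtype.ext e, map_one])
  have hR : IsPGroup p ↥(Q ⊔ zpowers (a : G)) :=
    hQ.to_sup_of_normal_left' (IsPGroup.of_card (by rw [Nat.card_zpowers, hk]))
      (zpowers_le.2 a.2)
  have hab' : Commute (a : G) b := congrArg Subtype.val hab.eq
  have hbR : (b : G) ∈ normalizer ((Q ⊔ zpowers (a : G) : Subgroup G) : Set G) := by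
    refine mem_normalizer_iff_map_conj_eq.2 ?_
    rw [Subgroup.map_sup, mem_normalizer_iff_map_conj_eq.1 b.2, MonoidHom.map_zpowers]
    simp [hab'.symm.eq]
  have := h.fix hR hbR hbcop (mem_sup_right (mem_zpowers (a : G))) ha1 hab'.symm
  exact centralizer_le (SetLike.coe_subset_coe.2 le_sup_left) this

/-- With more than one Sylow subgroup the automiser has elements of order `p`. -/
lemma dvd_of_not_subsingleton (hns : ¬ Subsingleton (Sylow p (Aut' Q))) :
    p ∣ Nat.card (Aut' Q) := by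
  by_contra hd
  refine hns ⟨fun S T => Sylow.ext ?_⟩
  have key : ∀ S : Sylow p (Aut' Q), (S : Subgroup (Aut' Q)) = ⊥ := fun S => by
    refine Subgroup.card_eq_one.1 ?_
    rw [S.card_eq_multiplicity, Nat.factorization_eq_zero_of_not_dvd hd, pow_zero]
  rw [key S, key T]

/-- The automiser has odd order. -/
lemma odd_card (h : Hyp G p) (hp2 : p ≠ 2) (hQ : IsPGroup p Q)
    (hns : ¬ Subsingleton (Sylow p (Aut' Q))) : Odd (Nat.card (Aut' Q)) := by
  by_contra hev
  rw [Nat.not_odd_iff_even, even_iff_two_dvd] at hev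
  haveI : Fact (Nat.Prime 2) := ⟨Nat.prime_two⟩
  obtain ⟨x, hx⟩ := exists_prime_orderOf_dvd_card' 2 hev
  obtain ⟨y, hy⟩ := exists_prime_orderOf_dvd_card' p (dvd_of_not_subsingleton hns)
  obtain ⟨t, ht⟩ := QuotientGroup.mk'_surjective (CQ Q) x
  obtain ⟨m, hm⟩ := QuotientGroup.mk'_surjective (CQ Q) y
  have hcop : (orderOf x).Coprime p := by
    rw [hx]; exact (Nat.coprime_primes Nat.prime_two hp.out).2 (Ne.symm hp2)
  have hx1 : x ≠ 1 := fun e => by rw [e, orderOf_one] at hx; omega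
  have hy1 : y ≠ 1 := fun e => by
    rw [e, orderOf_one] at hy; exact hp.out.ne_one hy.symm
  let φ : Q →* Q :=
    { toFun := fun v => ⟨(t : G) * v * (t : G)⁻¹, (mem_normalizer_iff.1 t.2 v).1 v.2⟩
      map_one' := Subtype.ext (by simp)
      map_mul' := fun a b => Subtype.ext (by simp [mul_assoc]) }
  have hfpf : MonoidHom.FixedPointFree φ := by
    intro v hv
    by_contra hv1
    refine hx1 (ht ▸ fpf h hQ (n := t) (ht ▸ hcop) v.2 (fun e => hv1 (Subtype.ext e)) ?_)
    exact mul_inv_eq_iff_eq_mul.1 (congrArg Subtype.val hv)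
  have htt : ((t * t : (NQ Q)) : G) ∈ centralizer (Q : Set G) := by
    rw [← pi_eq_one_iff, map_mul, ht, ← pow_two, ← hx, pow_orderOf_eq_one]
  have hinvol : Function.Involutive φ := fun v => Subtype.ext (by
    show (t : G) * ((t : G) * v * (t : G)⁻¹) * (t : G)⁻¹ = v
    have e := mem_centralizer_iff.1 htt v v.2
    push_cast at e
    calc (t : G) * ((t : G) * v * (t : G)⁻¹) * (t : G)⁻¹
        = (t * t : G) * v * ((t : G)⁻¹ * (t : G)⁻¹) := by group
      _ = (v : G) * (t * t : G) * ((t : G)⁻¹ * (t : G)⁻¹) := by rw [e]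
      _ = v := by group)
  have hinv : ∀ v ∈ Q, (t : G) * v * (t : G)⁻¹ = v⁻¹ := fun v hv => by
    simpa [φ] using congrArg Subtype.val (congrFun (hfpf.coe_eq_inv_of_involutive hinvol) ⟨v, hv⟩)
  have hcomm : Commute x y := by
    rw [← ht, ← hm]
    show pr Q t * pr Q m = pr Q m * pr Q t
    rw [← map_mul, ← map_mul, ← inv_mul_eq_one, ← map_inv, ← map_mul, pi_eq_one_iff,
      mem_centralizer_iff]
    intro v hv
    have h1 := hinv v hv
    have h2 := hinv _ ((mem_normalizer_iff.1 m.2 v).1 hv)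
    push_cast
    refine Eq.symm ?_
    rw [← mul_inv_eq_iff_eq_mul]
    calc (↑t * ↑m)⁻¹ * (↑m * ↑t) * v * ((↑t * ↑m : G)⁻¹ * (↑m * ↑t))⁻¹
        = (m : G)⁻¹ * ((t : G)⁻¹ * ((m : G) * ((t : G) * v * (t : G)⁻¹) * (m : G)⁻¹) * t) * m := by
          group
      _ = (m : G)⁻¹ * ((t : G)⁻¹ * ((m : G) * v * (m : G)⁻¹)⁻¹ * t) * m := by
          rw [h1]; group
      _ = v := by rw [← h2]; group
  exact hx1 (not_commute h hQ hcop ⟨1, by rw [hy, pow_one]⟩ hy1 hcomm)

/-- An element of order `p` normalises a non-trivial subgroup of order prime to `p`. -/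
lemma exists_pair (h : Hyp G p) (hp2 : p ≠ 2) (hQ : IsPGroup p Q)
    (hns : ¬ Subsingleton (Sylow p (Aut' Q))) :
    ∃ (W : Subgroup (Aut' Q)) (y : Aut' Q), W ≠ ⊥ ∧ (Nat.card W).Coprime p ∧ orderOf y = p ∧
      y ∈ normalizer (W : Set (Aut' Q)) := by
  classical
  set X := Aut' Q
  haveI hXs : Group.IsSolvable X :=
    Cfsg.Agent.PF.isSolvable_of_odd X (odd_card h hp2 hQ hns)
  set R := Cfsg.pCore p X with hRdef
  haveI : R.Normal := Cfsg.Lib.Components.pCore_normal' p
  have hR : IsPGroup p R := Cfsg.Lib.Components.isPGroup_pCore p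
  have hRidx : p ∣ R.index := by
    by_contra hd
    refine hns ⟨fun S T => Sylow.ext ?_⟩
    have key : ∀ S : Sylow p X, (S : Subgroup X) = R := fun S => by
      have e : R = ((hR.toSylow hd : Sylow p X) : Subgroup X) := rfl
      haveI : ((hR.toSylow hd : Sylow p X) : Subgroup X).Normal := e ▸ inferInstance
      haveI := Sylow.unique_of_normal (hR.toSylow hd) inferInstance
      rw [Subsingleton.elim S (hR.toSylow hd)]
      rfl
    rw [key S, key T]
  have hne : (⊤ : Subgroup (X ⧸ R)) ≠ ⊥ := fun e => by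
    have : R.index = 1 := by rw [Subgroup.index_eq_card, ← Subgroup.card_top, e, Subgroup.card_bot]
    rw [this] at hRidx
    exact hp.out.not_dvd_one hRidx
  haveI : (⊤ : Subgroup (X ⧸ R)).Normal := inferInstance
  obtain ⟨q, hq, V, hVn, hVq, hV1, -⟩ :=
    Cfsg.Lib.SpecFive.exists_normal_qgroup (⊤ : Subgroup (X ⧸ R)) inferInstance hne
  haveI := hVn
  haveI : Fact q.Prime := ⟨hq⟩
  set M := V.comap (QuotientGroup.mk' R) with hMdef
  have hRM : R ≤ M := (QuotientGroup.ker_mk' R).symm.le.trans (MonoidHom.ker_le_comap _ _)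
  have hqp : q ≠ p := by
    rintro rfl
    have hMp : IsPGroup q M := hVq.comap_of_ker_isPGroup _ (by rwa [QuotientGroup.ker_mk'])
    have hle : M ≤ R := le_sSup ⟨inferInstance, hMp⟩
    refine hV1 (eq_bot_iff.2 fun v hv => ?_)
    obtain ⟨x, rfl⟩ := QuotientGroup.mk'_surjective R v
    exact mem_bot.2 ((QuotientGroup.eq_one_iff _).2 (hle hv))
  obtain ⟨j, hj⟩ := IsPGroup.iff_card.1 hVq
  have hj0 : j ≠ 0 := fun e => hV1 (Subgroup.card_eq_one.1 (by rw [hj, e, pow_zero]))
  have hidx : M.index * Nat.card V = R.index := by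
    rw [hMdef, Subgroup.index_comap_of_surjective _ (QuotientGroup.mk'_surjective R),
      Subgroup.index_eq_card R, mul_comm, Subgroup.card_mul_index]
  have hpM : p ∣ M.index := by
    rw [← hidx, hj] at hRidx
    exact (hp.out.dvd_mul.1 hRidx).resolve_right fun hd =>
      hqp ((Nat.prime_dvd_prime_iff_eq hp.out hq).1 (hp.out.dvd_of_dvd_pow hd)).symm
  have hqM : q ∣ Nat.card M := by
    have h1 : Nat.card V ∣ Nat.card M := by
      have := Subgroup.card_map_dvd M (QuotientGroup.mk' R)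
      rwa [hMdef, Subgroup.map_comap_eq_self_of_surjective (QuotientGroup.mk'_surjective R)] at this
    exact (hj ▸ dvd_pow_self q hj0).trans h1
  obtain ⟨S⟩ : Nonempty (Sylow q M) := inferInstance
  set W := (S : Subgroup M).map M.subtype with hW
  have hsup := Sylow.normalizer_sup_eq_top S
  have hWc : Nat.card W = Nat.card S :=
    (Nat.card_congr ((S : Subgroup M).equivMapOfInjective _ M.subtype_injective).toEquiv).symm
  have hWq : IsPGroup q W := S.2.map _
  have hS1 : (S : Subgroup M) ≠ ⊥ := fun e => by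
    have := S.card_eq_multiplicity
    rw [e, Subgroup.card_bot] at this
    have h0 : 0 < (Nat.card M).factorization q := hq.factorization_pos_of_dvd Nat.card_pos.ne' hqM
    exact (Nat.one_lt_pow h0.ne' hq.one_lt).ne this
  have hpN : p ∣ Nat.card (normalizer (W : Set X)) := by
    refine hpM.trans ?_
    have e : (normalizer (W : Set X)).map (QuotientGroup.mk' M) = ⊤ := by
      have := congrArg (Subgroup.map (QuotientGroup.mk' M)) hsup
      rw [Subgroup.map_sup, QuotientGroup.map_mk'_self, sup_bot_eq,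
        Subgroup.map_top_of_surjective _ (QuotientGroup.mk'_surjective M)] at this
      exact this
    have h1 := Subgroup.card_map_dvd (normalizer (W : Set X)) (QuotientGroup.mk' M)
    rwa [e, Subgroup.card_top, ← Subgroup.index_eq_card] at h1
  obtain ⟨y, hy⟩ := exists_prime_orderOf_dvd_card' p hpN
  refine ⟨W, y, fun e => hS1 ((Subgroup.map_eq_bot_iff_of_injective _ M.subtype_injective).1 e),
    ?_, by rwa [Subgroup.orderOf_coe], y.2⟩
  obtain ⟨i, hi⟩ := IsPGroup.iff_card.1 hWq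
  rw [hi]
  exact ((Nat.coprime_primes hq hp.out).2 hqp).pow_left i

/-- The automiser has a unique Sylow subgroup. -/
theorem subsingleton_sylow (h : Hyp G p) (hp2 : p ≠ 2) (hQ : IsPGroup p Q) (hQ1 : Q ≠ ⊥) :
    Subsingleton (Sylow p (Aut' Q)) := by
  classical
  by_contra hns
  obtain ⟨W, y, hW1, hWp, hy, hyW⟩ := exists_pair h hp2 hQ hns
  letI : Fintype W := Fintype.ofFinite W
  haveI : Nontrivial Q := (Subgroup.nontrivial_iff_ne_bot Q).2 hQ1
  haveI := hQ.center_nontrivial
  -- the action on the centre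
  let c : NQ Q → center Q → center Q := fun n v =>
    ⟨⟨(n : G) * ((v : Q) : G) * (n : G)⁻¹, (mem_normalizer_iff.1 n.2 _).1 (v : Q).2⟩, by
      refine mem_center_iff.2 fun w => Subtype.ext ?_
      have hw : (n : G)⁻¹ * (w : G) * n ∈ Q :=
        (mem_normalizer_iff.1 n.2 _).2 (by simpa [mul_assoc] using w.2)
      have e := congrArg Subtype.val (mem_center_iff.1 v.2 ⟨_, hw⟩)
      simp only [coe_mul] at e ⊢
      calc (w : G) * ((n : G) * ((v : Q) : G) * (n : G)⁻¹)
          = n * (((n : G)⁻¹ * w * n) * ((v : Q) : G)) * (n : G)⁻¹ := by group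
        _ = n * (((v : Q) : G) * ((n : G)⁻¹ * w * n)) * (n : G)⁻¹ := by rw [e]
        _ = _ := by group⟩
  have hcv : ∀ (n : NQ Q) (v : center Q),
      ((c n v : Q) : G) = (n : G) * ((v : Q) : G) * (n : G)⁻¹ := fun _ _ => rfl
  let f : Aut' Q → center Q → center Q := fun x => c (Function.surjInv
    (QuotientGroup.mk'_surjective (CQ Q)) x)
  have hf : ∀ (n : NQ Q) (v : center Q), f (pr Q n) v = c n v := by
    intro n v
    have e := Function.surjInv_eq (QuotientGroup.mk'_surjective (CQ Q)) (pr Q n)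
    set m := Function.surjInv (QuotientGroup.mk'_surjective (CQ Q)) (pr Q n) with hm
    have h1 : ((m⁻¹ * n : NQ Q) : G) ∈ centralizer (Q : Set G) := by
      rw [← pi_eq_one_iff, map_mul, map_inv, show pr Q m = pr Q n from e, inv_mul_cancel]
    have h2 := mem_centralizer_iff.1 h1 _ (v : Q).2
    show c m v = c n v
    refine Subtype.ext (Subtype.ext ?_)
    rw [hcv, hcv]
    push_cast at h2
    calc (m : G) * ((v : Q) : G) * (m : G)⁻¹
        = m * (((v : Q) : G) * ((m : G)⁻¹ * n)) * (n : G)⁻¹ := by group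
      _ = m * ((m : G)⁻¹ * n * ((v : Q) : G)) * (n : G)⁻¹ := by rw [h2]
      _ = _ := by group
  have hfmul : ∀ x z v, f (x * z) v = f x (f z v) := by
    intro x z v
    obtain ⟨n, rfl⟩ := QuotientGroup.mk'_surjective (CQ Q) x
    obtain ⟨m, rfl⟩ := QuotientGroup.mk'_surjective (CQ Q) z
    show f (pr Q n * pr Q m) v = f (pr Q n) (f (pr Q m) v)
    rw [← map_mul, hf, hf, hf]
    refine Subtype.ext (Subtype.ext ?_)
    simp only [hcv]
    push_cast
    group
  have hfhom : ∀ x v w, f x (v * w) = f x v * f x w := by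
    intro x v w
    obtain ⟨n, rfl⟩ := QuotientGroup.mk'_surjective (CQ Q) x
    show f (pr Q n) _ = _
    simp only [hf]
    refine Subtype.ext (Subtype.ext ?_)
    simp only [hcv, coe_mul]
    group
  have hf1 : ∀ v, f 1 v = v := by
    intro v
    rw [← map_one (pr Q), hf]
    refine Subtype.ext (Subtype.ext ?_)
    simp [hcv]
  letI : CommGroup (center Q) :=
    { (inferInstance : Group (center Q)) with
      mul_comm := fun a b => Subtype.ext (mem_center_iff.1 b.2 a.1) }
  let fh : Aut' Q → center Q →* center Q := fun x => MonoidHom.mk' (f x) (hfhom x)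
  -- elements of order `p`
  have hord : ∀ x : Aut' Q, orderOf x = p → ∀ v, ∏ i ∈ Finset.range p, f (x ^ i) v = 1 := by
    intro x hx v
    obtain ⟨z, hz⟩ := QuotientGroup.mk'_surjective (CQ Q) x
    obtain ⟨a, b, -, -, -, ⟨k, hk⟩, -, hay, -⟩ := lift_parts (x := (1 : Aut' Q)) (y := x)
      (Commute.one_left _) (by rw [orderOf_one]; exact Nat.coprime_one_left p)
      ⟨1, by rw [hx, pow_one]⟩ (z := z) (by rw [one_mul]; exact hz)
    have hap : (a : G) ^ p = 1 := h.pow_prime ⟨k, hk⟩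
    have hR : IsPGroup p ↥(Q ⊔ zpowers (a : G)) :=
      hQ.to_sup_of_normal_left' (IsPGroup.of_card (by rw [Nat.card_zpowers, hk]))
        (zpowers_le.2 a.2)
    have hvap : (((v : Q) : G) * a) ^ p = 1 := h.pow_prime (pel_of_mem hR
      (mul_mem (mem_sup_left (v : Q).2) (mem_sup_right (mem_zpowers (a : G)))))
    have key : ∀ j, (((v : Q) : G) * a) ^ j =
        (((∏ i ∈ Finset.range j, f (x ^ i) v : center Q) : Q) : G) * (a : G) ^ j := by
      intro j
      induction j with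
      | zero => simp
      | succ j ih =>
        rw [pow_succ' (((v : Q) : G) * (a : G)), ih, Finset.prod_range_succ', pow_zero, hf1, mul_comm _ v]
        have e : ∏ i ∈ Finset.range j, f (x ^ (i + 1)) v =
            c a (∏ i ∈ Finset.range j, f (x ^ i) v) := by
          rw [← hf, show pr Q a = x from hay]
          show _ = fh x _
          rw [map_prod]
          refine Finset.prod_congr rfl fun i _ => ?_
          show _ = f x (f (x ^ i) v)
          rw [← hfmul, ← pow_succ']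
        rw [e, coe_mul, coe_mul, hcv, pow_succ' (a : G)]
        group
    have := key p
    rw [hvap, hap, mul_one] at this
    exact Subtype.ext (Subtype.ext this.symm)
  -- `W` is fixed-point-free
  have hfix : ∀ v : center Q, (∀ w : W, f w v = v) → v = 1 := by
    intro v hv
    by_contra hv1
    obtain ⟨⟨w, hw⟩, hw1⟩ := Subgroup.ne_bot_iff_exists_ne_one.1 hW1
    obtain ⟨n, rfl⟩ := QuotientGroup.mk'_surjective (CQ Q) w
    refine hw1 (Subtype.ext (fpf h hQ (n := n) (Nat.Coprime.coprime_dvd_left ?_ hWp) (v : Q).2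
      (fun e => hv1 (Subtype.ext (Subtype.ext e))) ?_))
    · rw [← Subgroup.orderOf_mk (a := pr Q n) (ha := hw)]
      exact orderOf_dvd_natCard _
    · have e := congrArg (fun u : center Q => ((u : Q) : G)) (hv ⟨_, hw⟩)
      change ((f (pr Q n) v : Q) : G) = _ at e
      rw [hf, hcv, mul_inv_eq_iff_eq_mul] at e
      exact e
  have hsum : ∀ v, ∏ w : W, f w v = 1 := fun v => hfix _ fun u => by
    show fh u _ = _
    rw [map_prod]
    refine Fintype.prod_equiv (Equiv.mulLeft u) _ _ fun w => ?_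
    show f u (f w v) = f ((u * w : W) : Aut' Q) v
    rw [← hfmul]
    rfl
  -- the contradiction
  obtain ⟨v, hv1⟩ := exists_ne (1 : center Q)
  refine hv1 ?_
  have hyi : ∀ i ∈ Finset.Ico 1 p, (∀ u : W, Commute (y ^ i) (u : Aut' Q) → u = 1) := by
    intro i hi u hu
    obtain ⟨hi1, hip⟩ := Finset.mem_Ico.1 hi
    refine Subtype.ext (not_commute h hQ (Nat.Coprime.coprime_dvd_left ?_ hWp) ?_ ?_ hu.symm)
    · rw [Subgroup.orderOf_coe]; exact orderOf_dvd_natCard _
    · obtain ⟨j, -, hj⟩ := (Nat.dvd_prime_pow hp.out).1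
        (show orderOf (y ^ i) ∣ p ^ 1 by rw [pow_one, ← hy]; exact orderOf_pow_dvd i)
      exact ⟨j, hj⟩
    · exact pow_ne_one_of_lt_orderOf (by omega) (hy ▸ hip)
  have hre : ∀ i ∈ Finset.Ico 1 p, ∏ w : W, f (w * y ^ i) v =
      ∏ w : W, f ((w * y * (w : Aut' Q)⁻¹) ^ i) v := by
    intro i hi
    have hmem : ∀ w : W, y ^ i * (w : Aut' Q)⁻¹ * (y ^ i)⁻¹ ∈ W := fun w =>
      (mem_normalizer_iff.1 ((normalizer (W : Set (Aut' Q))).pow_mem hyW i) _).1 (inv_mem w.2)
    let σ : W → W := fun w => w * ⟨_, hmem w⟩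
    have hinj : Function.Injective σ := by
      intro a b hab
      have e : (a : Aut' Q) * (y ^ i * (a : Aut' Q)⁻¹ * (y ^ i)⁻¹) =
          b * (y ^ i * (b : Aut' Q)⁻¹ * (y ^ i)⁻¹) := congrArg Subtype.val hab
      have hc : Commute (y ^ i) ((b⁻¹ * a : W) : Aut' Q) := by
        show y ^ i * ((b : Aut' Q)⁻¹ * a) = (b : Aut' Q)⁻¹ * a * y ^ i
        calc y ^ i * ((b : Aut' Q)⁻¹ * a)
            = (b : Aut' Q)⁻¹ * (b * (y ^ i * (b : Aut' Q)⁻¹ * (y ^ i)⁻¹)) * (y ^ i * a) := by group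
          _ = (b : Aut' Q)⁻¹ * (a * (y ^ i * (a : Aut' Q)⁻¹ * (y ^ i)⁻¹)) * (y ^ i * a) := by rw [e]
          _ = _ := by group
      exact (inv_mul_eq_one.1 (hyi i hi _ hc)).symm
    symm
    refine Fintype.prod_equiv (Equiv.ofBijective σ (Finite.injective_iff_bijective.1 hinj)) _ _
      fun w => ?_
    congr 1
    show _ = ((w : Aut' Q) * (y ^ i * (w : Aut' Q)⁻¹ * (y ^ i)⁻¹)) * y ^ i
    rw [conj_pow]
    group
  have htot : ∏ w : W, ∏ i ∈ Finset.range p, f (w * y ^ i) v = 1 := by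
    refine Finset.prod_eq_one fun w _ => ?_
    rw [Finset.prod_congr rfl fun i _ => hfmul w (y ^ i) v]
    show ∏ i ∈ Finset.range p, fh w (f (y ^ i) v) = 1
    rw [← map_prod, hord y hy v, map_one]
  have hcon : ∀ w : W, ∏ i ∈ Finset.Ico 1 p, f ((w * y * (w : Aut' Q)⁻¹) ^ i) v = v⁻¹ := by
    intro w
    have := hord (w * y * (w : Aut' Q)⁻¹) (by
      rw [← hy]; exact (MulAut.conj (w : Aut' Q)).orderOf_eq y) v
    rw [Finset.range_eq_Ico, Finset.prod_eq_prod_Ico_succ_bot hp.out.pos, pow_zero, hf1] at this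
    exact eq_inv_of_mul_eq_one_right this
  rw [Finset.prod_comm, Finset.range_eq_Ico, Finset.prod_eq_prod_Ico_succ_bot hp.out.pos,
    Finset.prod_congr rfl (fun w _ => by rw [pow_zero, mul_one]), hsum, one_mul,
    Finset.prod_congr rfl hre, Finset.prod_comm, Finset.prod_congr rfl fun w _ => hcon w,
    Finset.prod_const, Finset.card_univ, ← Nat.card_eq_fintype_card, inv_pow, inv_eq_one] at htot
  obtain ⟨k, hk⟩ := IsPGroup.iff_orderOf.1 (hQ.to_subgroup (center Q)) v
  exact orderOf_eq_one_iff.1 (Nat.eq_one_of_dvd_coprimes (hWp.pow_right k)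
    (orderOf_dvd_of_pow_eq_one htot) hk.dvd)

end automiser

/-- Two conjugates of a Sylow subgroup over a common part. -/
lemma exists_conj_pair (h : Hyp G p) (hp2 : p ≠ 2) {Q A A' : Subgroup G} (hQ : IsPGroup p Q)
    (hQ1 : Q ≠ ⊥) (hA : IsPGroup p A) (hA' : IsPGroup p A') (hAN : A ≤ NQ Q) (hA'N : A' ≤ NQ Q) :
    ∃ (R : Sylow p G) (c : G), c ∈ centralizer (Q : Set G) ∧ A ≤ R ∧
      A' ≤ (R : Subgroup G).map (MulAut.conj c).toMonoidHom := by
  haveI := subsingleton_sylow h hp2 hQ hQ1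
  obtain ⟨T, hT⟩ := (hA.comap_subtype (K := NQ Q)).exists_le_sylow
  obtain ⟨T', hT'⟩ := (hA'.comap_subtype (K := NQ Q)).exists_le_sylow
  set H := (T : Subgroup (NQ Q)) ⊔ CQ Q with hH
  have himg : (T' : Subgroup (NQ Q)).map (pr Q) = (T : Subgroup (NQ Q)).map (pr Q) :=
    congrArg (fun S : Sylow p (Aut' Q) => (S : Subgroup (Aut' Q))) (Subsingleton.elim
      (T'.mapSurjective (QuotientGroup.mk'_surjective (CQ Q)))
      (T.mapSurjective (QuotientGroup.mk'_surjective (CQ Q))))
  have hT'H : (T' : Subgroup (NQ Q)) ≤ H := by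
    rw [hH]
    calc (T' : Subgroup (NQ Q)) ≤ ((T' : Subgroup (NQ Q)).map (pr Q)).comap (pr Q) :=
          Subgroup.le_comap_map _ _
      _ = ((T : Subgroup (NQ Q)).map (pr Q)).comap (pr Q) := by rw [himg]
      _ = _ := by rw [Subgroup.comap_map_eq, QuotientGroup.ker_mk']
  obtain ⟨g, hg⟩ := MulAction.exists_smul_eq H (T.subtype (le_sup_left : (T : Subgroup (NQ Q)) ≤ H))
    (T'.subtype hT'H)
  obtain ⟨t, ht, c, hc, htc⟩ := Subgroup.mem_sup_of_normal_right.1 g.2
  obtain ⟨R, hR⟩ := (T.2.map (NQ Q).subtype).exists_le_sylow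
  refine ⟨R, ((t * c * t⁻¹ : NQ Q) : G), ?_, fun a ha => hR ⟨⟨a, hAN ha⟩, hT ha, rfl⟩, ?_⟩
  · exact mem_subgroupOf.1 ((normal_cq Q).conj_mem c hc t)
  intro a ha
  have h1 : (⟨⟨a, hA'N ha⟩, hT'H (hT' ha)⟩ : H) ∈ ((T'.subtype hT'H : Sylow p H) : Subgroup H) :=
    hT' ha
  rw [← hg, Sylow.smul_def, Sylow.pointwise_smul_def, Subgroup.mem_pointwise_smul_iff_inv_smul_mem] at h1
  have h2 : ((g : NQ Q))⁻¹ * ⟨a, hA'N ha⟩ * (g : NQ Q) ∈ (T : Subgroup (NQ Q)) := by
    simpa [Sylow.coe_subtype, mem_subgroupOf, MulAut.smul_def] using h1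
  have h3 := mul_mem (mul_mem ht h2) (inv_mem ht)
  rw [← htc] at h3
  refine ⟨_, hR ⟨_, h3, rfl⟩, ?_⟩
  simp [mul_assoc]

/-- A central element of one Sylow subgroup is central in every Sylow subgroup containing it. -/
theorem central_of_central (h : Hyp G p) (hp2 : p ≠ 2) (R S : Sylow p G) {a : G} (ha1 : a ≠ 1)
    (haR : a ∈ R) (haS : a ∈ S) (hR : ∀ r ∈ R, Commute r a) : ∀ s ∈ S, Commute s a := by
  suffices H : ∀ (D : Subgroup G) (R S : Sylow p G), D = (R : Subgroup G) ⊓ S → a ∈ R → a ∈ S →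
      (∀ r ∈ R, Commute r a) → ∀ s ∈ S, Commute s a from H _ R S rfl haR haS hR
  intro D
  induction D using IsWellFounded.induction (· > · : Subgroup G → Subgroup G → Prop) with
  | ind D ih =>
  intro R S hD haR haS hR
  by_cases hRS : R = S
  · exact hRS ▸ hR
  have hDR : D < (R : Subgroup G) := by
    refine lt_of_le_of_ne (hD ▸ inf_le_left) fun e => hRS (Sylow.ext ?_)
    refine Subgroup.eq_of_le_of_card_ge (by rw [← e, hD]; exact inf_le_right) ?_
    rw [R.card_eq_multiplicity, S.card_eq_multiplicity]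
  have hDS : D < (S : Subgroup G) := by
    refine lt_of_le_of_ne (hD ▸ inf_le_right) fun e => hRS (Sylow.ext ?_)
    refine (Subgroup.eq_of_le_of_card_ge (by rw [← e, hD]; exact inf_le_left) ?_).symm
    rw [R.card_eq_multiplicity, S.card_eq_multiplicity]
  have haD : a ∈ D := hD ▸ ⟨haR, haS⟩
  have hDp : IsPGroup p D := R.2.to_le hDR.le
  obtain ⟨R₁, c, hc, h1, h2⟩ := exists_conj_pair h hp2 hDp (fun e => ha1 (by rwa [e, mem_bot] at haD))
    (R.2.to_le (inf_le_left : (R : Subgroup G) ⊓ NQ D ≤ R))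
    (S.2.to_le (inf_le_left : (S : Subgroup G) ⊓ NQ D ≤ S)) inf_le_right inf_le_right
  have big1 : D < (R : Subgroup G) ⊓ (R₁ : Subgroup G) :=
    (Cfsg.Lib.Transfer.lt_inf_normalizer_of_lt R hDR).trans_le (le_inf inf_le_left h1)
  have haR₁ : a ∈ R₁ := (Subgroup.mem_inf.1 (big1.le haD)).2
  have hR₁ := ih _ big1 R R₁ rfl haR haR₁ hR
  have hcs : ((c • R₁ : Sylow p G) : Subgroup G) = (R₁ : Subgroup G).map (MulAut.conj c).toMonoidHom :=
    Cfsg.Lib.Transfer.sylow_smul_coe c R₁
  have big2 : D < ((c • R₁ : Sylow p G) : Subgroup G) ⊓ (S : Subgroup G) :=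
    (Cfsg.Lib.Transfer.lt_inf_normalizer_of_lt S hDS).trans_le (le_inf (hcs ▸ h2) inf_le_left)
  refine ih _ big2 _ S rfl (Subgroup.mem_inf.1 (big2.le haD)).1 haS fun r hr => ?_
  obtain ⟨r', hr', rfl⟩ : r ∈ (R₁ : Subgroup G).map (MulAut.conj c).toMonoidHom := hcs ▸ hr
  have hca : Commute c a := (mem_centralizer_iff.1 hc a haD).symm
  exact (hca.mul_left (hR₁ r' hr')).mul_left hca.inv_left

/-- **One class of `p`-elements with `p`-nilpotent centralisers: abelian Sylow subgroups.** -/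
theorem isElementaryAbelian (h : Hyp G p) (P : Sylow p G) :
    Cfsg.IsElementaryAbelian p (P : Subgroup G) := by
  have hexp : ∀ a ∈ (P : Subgroup G), a ^ p = 1 := fun a ha => h.pow_prime (pel_of_mem P.2 ha)
  refine ⟨⟨⟨fun a b => Subtype.ext (?_ : (a : G) * b = b * a)⟩⟩, hexp⟩
  obtain ⟨a, ha⟩ := a; obtain ⟨b, hb⟩ := b
  show a * b = b * a
  by_cases hp2 : p = 2
  · have e : ∀ x ∈ (P : Subgroup G), x⁻¹ = x := fun x hx => by
      have := hexp x hx
      rw [hp2, pow_two] at this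
      exact inv_eq_of_mul_eq_one_right this
    have := e _ (mul_mem ha hb)
    rw [mul_inv_rev, e a ha, e b hb] at this
    exact this.symm
  by_cases ha1 : a = 1
  · simp [ha1]
  haveI : Nontrivial (P : Subgroup G) := ⟨⟨⟨a, ha⟩, 1, fun e => ha1 (congrArg Subtype.val e)⟩⟩
  haveI := P.2.center_nontrivial
  obtain ⟨⟨⟨z, hzP⟩, hz⟩, hz1⟩ := exists_ne (1 : center (P : Subgroup G))
  have hz1' : z ≠ 1 := fun e => hz1 (Subtype.ext (Subtype.ext e))
  obtain ⟨g, hg⟩ := isConj_iff.1 (h.conj z a hz1' ha1 (pel_of_mem P.2 hzP) (pel_of_mem P.2 ha))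
  have hc : ((g • P : Sylow p G) : Subgroup G) = (P : Subgroup G).map (MulAut.conj g).toMonoidHom :=
    Cfsg.Lib.Transfer.sylow_smul_coe g P
  refine (central_of_central h hp2 (g • P) P ha1 ?_ ha (fun r hr => ?_) b hb).symm.eq
  · show a ∈ ((g • P : Sylow p G) : Subgroup G)
    rw [hc]; exact ⟨z, hzP, hg⟩
  · obtain ⟨r', hr', rfl⟩ : r ∈ (P : Subgroup G).map (MulAut.conj g).toMonoidHom := hc ▸ hr
    rw [← hg]
    exact (show Commute r' z from congrArg Subtype.val (mem_center_iff.1 hz ⟨r', hr'⟩)).map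
      (MulAut.conj g).toMonoidHom

end Cfsg.Lib.OneClass
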