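import Mathlib
import Cfsg.Agent.OneClass.Abelian
import Cfsg.Agent.Blocks.SectionRanks
import Cfsg.Agent.Blocks.AbelianSubsections
import Cfsg.Agent.Blocks.PrincipalRank
import Cfsg.Agent.Blocks.Third
import Cfsg.Agent.Blocks.HeightCentre
import Cfsg.Agent.Blocks.Reynolds
import Cfsg.Agent.Components.PComponents

/-!
# Blocks with one more ordinary than modular character

If `k(B) ≤ l(B) + 1` and every non-identity `p`-element has a block of its centraliser inducing `B`,
there is one class of these elements and each such block has regular rank one. This gives elementary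
abelian defect groups for principal blocks and for `p`-solvable groups.
-/

set_option autoImplicit false
set_option linter.unusedSectionVars false
set_option linter.style.haveILetI false

namespace Cfsg.Lib.OneClass

open Cfsg Cfsg.Lib.Blocks Cfsg.Lib.Chars

universe u

variable {G : Type u} [Group G] [Fintype G] {M : Ideal AlgInt} {p : ℕ}

/-- One class of non-identity `p`-elements, each section of rank one. -/
theorem one_class (hM : IsPModular p M) {B : Set (IrrCharacter G)} (hB : IsPBlock M B)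
    (hk : Nat.card B ≤ blockRank p B + 1)
    (hcov : ∀ x : G, x ≠ 1 → (∃ k, orderOf x = p ^ k) →
      ∃ b, IsInducedBlock M (Subgroup.centralizer ({x} : Set G)) b B) :
    (∀ x y : G, x ≠ 1 → y ≠ 1 → (∃ k, orderOf x = p ^ k) → (∃ k, orderOf y = p ^ k) → IsConj x y) ∧
      ∀ x : G, x ≠ 1 → (∃ k, orderOf x = p ^ k) →
        ∀ b, IsInducedBlock M (Subgroup.centralizer ({x} : Set G)) b B → blockRank p b = 1 := by
  classical
  let c : G → ℤ := fun x => (Nat.card (Subgroup.centralizer ({x} : Set G)) : ℤ)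
  let w : G → ℤ := fun x => sectWeight p M B (Subgroup.centralizer ({x} : Set G))
  have hG : (0 : ℤ) < Nat.card G := by exact_mod_cast Nat.card_pos
  have hcpos : ∀ x, 0 < c x := fun x => by simp only [c]; exact_mod_cast Nat.card_pos
  have hle : ∀ (x : G) b, IsInducedBlock M (Subgroup.centralizer ({x} : Set G)) b B →
      c x * (blockRank p b : ℤ) ≤ w x := by
    intro x b hb
    simp only [w, sectWeight_eq]
    refine mul_le_mul_of_nonneg_left ?_ (hcpos x).le
    exact Finset.single_le_sum (f := fun f => (blockRank p f : ℤ)) (fun i _ => Nat.cast_nonneg _)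
      (Finset.mem_filter.2 ⟨(mem_blocksFinset hM).2 hb.1, hb⟩)
  have hone : ∀ x ∈ pElements p G, c x ≤ w x := by
    intro x hx
    obtain ⟨hx1, hxk⟩ := mem_pElements.1 hx
    obtain ⟨b, hb⟩ := hcov x hx1 hxk
    refine le_trans ?_ (hle x b hb)
    have h1 : (1 : ℤ) ≤ blockRank p b := by exact_mod_cast blockRank_pos hM hb.1
    exact le_mul_of_one_le_right (hcpos x).le h1
  have htot : ∑ x ∈ pElements p G, w x ≤ Nat.card G := by
    rw [← card_sub_rank_eq_sum hM hB]
    have : (Nat.card B : ℤ) - blockRank p B ≤ 1 := by omega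
    calc _ ≤ (Nat.card G : ℤ) * 1 := mul_le_mul_of_nonneg_left this hG.le
      _ = _ := mul_one _
  let A : G → Finset G := fun x => (pElements p G).filter (IsConj x)
  have hclass : ∀ x ∈ pElements p G, ∑ z ∈ A x, c z = Nat.card G := by
    intro x hx
    obtain ⟨hx1, hxk⟩ := mem_pElements.1 hx
    have hA : A x = Finset.univ.filter (IsConj x) := by
      ext z
      simp only [A, Finset.mem_filter, Finset.mem_univ, true_and]
      refine ⟨fun h => h.2, fun h => ⟨?_, h⟩⟩
      obtain ⟨a, rfl⟩ := isConj_iff.1 h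
      exact mem_pElements.2 ⟨fun e => hx1 (conj_eq_one_iff.1 e),
        hxk.imp fun k hk => ((MulAut.conj a).orderOf_eq x).trans hk⟩
    have hcard : (A x).card = Nat.card {z : G // IsConj x z} := by
      rw [hA, Nat.card_eq_fintype_card, Fintype.card_subtype]
    have hconst : ∀ z ∈ A x, c z = c x := by
      intro z hz
      have hxz : IsConj x z := (Finset.mem_filter.1 hz).2
      have e : Nat.card {u : G // IsConj z u} = Nat.card {u : G // IsConj x u} :=
        Nat.card_congr (Equiv.subtypeEquivRight fun u => ⟨hxz.trans, hxz.symm.trans⟩)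
      have h1 := card_isConj_mul z
      rw [e, ← card_isConj_mul x] at h1
      have := Nat.eq_of_mul_eq_mul_left (card_isConj_pos x) h1
      simp only [c, this]
    rw [Finset.sum_congr rfl hconst, Finset.sum_const, hcard, nsmul_eq_mul]
    simp only [c]
    exact_mod_cast card_isConj_mul x
  refine ⟨fun x y hx1 hy1 hxk hyk => ?_, fun x hx1 hxk b hb => ?_⟩
  · by_contra hn
    have hx := mem_pElements.2 ⟨hx1, hxk⟩
    have hy := mem_pElements.2 ⟨hy1, hyk⟩
    have hdisj : Disjoint (A x) (A y) := by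
      rw [Finset.disjoint_left]
      exact fun z hz hz' => hn ((Finset.mem_filter.1 hz).2.trans (Finset.mem_filter.1 hz').2.symm)
    have hsub : A x ∪ A y ⊆ pElements p G :=
      Finset.union_subset (Finset.filter_subset _ _) (Finset.filter_subset _ _)
    have h1 : ∑ z ∈ A x ∪ A y, c z ≤ ∑ z ∈ A x ∪ A y, w z :=
      Finset.sum_le_sum fun z hz => hone z (hsub hz)
    rw [Finset.sum_union hdisj, hclass x hx, hclass y hy] at h1
    have h2 := (h1.trans (Finset.sum_le_sum_of_subset_of_nonneg hsub fun z hz _ =>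
      (hcpos z).le.trans (hone z hz))).trans htot
    linarith
  · have hx := mem_pElements.2 ⟨hx1, hxk⟩
    have hmem : x ∈ A x := Finset.mem_filter.2 ⟨hx, IsConj.refl x⟩
    have hsub : A x ⊆ pElements p G := Finset.filter_subset _ _
    have h1 := Finset.sum_le_sum_of_subset_of_nonneg (f := w) hsub fun z hz _ =>
      (hcpos z).le.trans (hone z hz)
    have h2 : ∑ z ∈ (A x).erase x, c z ≤ ∑ z ∈ (A x).erase x, w z :=
      Finset.sum_le_sum fun z hz => hone z (hsub (Finset.mem_of_mem_erase hz))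
    rw [← Finset.add_sum_erase _ _ hmem] at h1
    have h3 := hclass x hx
    rw [← Finset.add_sum_erase _ _ hmem] at h3
    have h4 : c x * (blockRank p b : ℤ) ≤ c x * 1 := by linarith [hle x b hb]
    have h5 := le_of_mul_le_mul_left h4 (hcpos x)
    have h6 := blockRank_pos hM hb.1
    omega

/-- The principal block. -/
theorem principal_case (hM : IsPModular p M) (hk : Nat.card (principalBlock M G) ≤
    blockRank p (principalBlock M G) + 1) (P : Sylow p G) :
    IsElementaryAbelian p (P : Subgroup G) := by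
  classical
  haveI := Fact.mk hM.1
  have hind : ∀ x : G, (∃ k, orderOf x = p ^ k) →
      IsInducedBlock M (Subgroup.centralizer ({x} : Set G))
        (principalBlock M (Subgroup.centralizer ({x} : Set G))) (principalBlock M G) := by
    intro x hx
    letI := Fintype.ofFinite (Subgroup.centralizer ({x} : Set G))
    have hpg : IsPGroup p (Subgroup.zpowers x) := by
      obtain ⟨k, hk⟩ := hx; exact IsPGroup.of_card (by rw [Nat.card_zpowers, hk])
    have hle : Subgroup.zpowers x ≤ Subgroup.centralizer ({x} : Set G) :=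
      Subgroup.zpowers_le.2 (Subgroup.mem_centralizer_singleton_iff.2 rfl)
    have hnor : Subgroup.centralizer ({x} : Set G) ≤
        Subgroup.normalizer (Subgroup.zpowers x : Set G) := by
      rw [← centralizer_zpowers]; exact Subgroup.centralizer_le_normalizer _
    have hdef := inducedBlockDefined_local hM hpg hle (centralizer_zpowers x).le hnor
      (isPBlock_blockOf (M := M) (principal (Subgroup.centralizer ({x} : Set G))))
    exact (isInducedBlock_principal_iff hM _ hdef).2 rfl
  obtain ⟨h1, h2⟩ := one_class hM (isPBlock_blockOf (principal G)) hk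
    fun x _ hx => ⟨_, hind x hx⟩
  refine isElementaryAbelian ⟨h1, fun u hu1 hu => ?_⟩ P
  letI := Fintype.ofFinite (Subgroup.centralizer ({u} : Set G))
  exact hasNormalPComplement_of_blockRank hM (h2 u hu1 hu _ (hind u hu))

/-- A `p`-solvable group with one class of non-identity `p`-elements. -/
theorem elementary_of_pSolvable_conj [Fact p.Prime] (hsolv : IsPSolvable p G)
    (hc : ∀ x y : G, x ≠ 1 → y ≠ 1 → (∃ k, orderOf x = p ^ k) → (∃ k, orderOf y = p ^ k) → IsConj x y)
    (S : Sylow p G) : IsElementaryAbelian p (S : Subgroup G) := by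
  classical
  haveI : (pPrimeCore p G).Normal := Components.pPrimeCore_normal' p
  let π := QuotientGroup.mk' (pPrimeCore p G)
  have hπinj : ∀ s ∈ (S : Subgroup G), π s = 1 → s = 1 := by
    intro s hs h
    have hsN : s ∈ pPrimeCore p G := (QuotientGroup.eq_one_iff s).1 h
    obtain ⟨k, hk⟩ := pel_of_mem S.2 hs
    refine orderOf_eq_one_iff.1 (Nat.eq_one_of_dvd_coprimes
      ((Components.coprime_card_pPrimeCore (G := G) p).pow_right k) ?_ hk.dvd)
    rw [← Subgroup.orderOf_mk (a := s) (ha := hsN)]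
    exact orderOf_dvd_natCard _
  by_cases hS : (S : Subgroup G) = ⊥
  · refine ⟨⟨⟨fun a b => Subtype.ext ?_⟩⟩, fun a ha => ?_⟩
    · have ha : (a : G) = 1 := Subgroup.mem_bot.1 (hS ▸ a.2)
      simp [ha]
    · rw [hS, Subgroup.mem_bot] at ha; rw [ha, one_pow]
  haveI : Nontrivial (S : Subgroup G) := (Subgroup.nontrivial_iff_ne_bot _).2 hS
  haveI := S.2.center_nontrivial
  -- exponent `p`
  have hexp : ∀ a ∈ (S : Subgroup G), a ^ p = 1 := by
    have hdvd : p ∣ Nat.card G := by
      obtain ⟨n, hn0, hn⟩ := S.2.nontrivial_iff_card.1 ‹_›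
      exact ((dvd_pow_self p hn0.ne').trans hn.symm.dvd).trans (Subgroup.card_subgroup_dvd_card _)
    obtain ⟨u, hu⟩ := exists_prime_orderOf_dvd_card' p hdvd
    intro a ha
    by_cases ha1 : a = 1
    · rw [ha1, one_pow]
    obtain ⟨g, hg⟩ := isConj_iff.1 (hc a u ha1 (fun e => Nat.Prime.ne_one Fact.out
      (hu ▸ (orderOf_eq_one_iff.2 e))) (pel_of_mem S.2 ha) ⟨1, by rw [hu, pow_one]⟩)
    refine orderOf_dvd_iff_pow_eq_one.1 (dvd_of_eq ?_)
    rw [← hu, ← hg]
    exact ((MulAut.conj g).orderOf_eq a).symm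
  haveI : Nontrivial (G ⧸ pPrimeCore p G) := by
    obtain ⟨⟨s, hs⟩, hs1⟩ := exists_ne (1 : (S : Subgroup G))
    exact ⟨⟨π s, 1, fun h => hs1 (Subtype.ext (hπinj s hs h))⟩⟩
  set Q := pCore p (G ⧸ pPrimeCore p G) with hQdef
  haveI : Q.Normal := Components.pCore_normal' p
  have hQ : Q ≠ ⊥ :=
    (GaschutzYen.exists_core_ne_bot (GaschutzYen.isPSolvable_quotient _ hsolv)).resolve_right
      fun h => h Components.pPrimeCore_quotient_eq_bot
  have hT : ((S.mapSurjective (QuotientGroup.mk'_surjective (pPrimeCore p G)) : Sylow p _) :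
      Subgroup (G ⧸ pPrimeCore p G)) = (S : Subgroup G).map π := rfl
  have hQT : Q ≤ (S : Subgroup G).map π := by
    have hQp : IsPGroup p Q := Components.isPGroup_pCore p
    rw [← hT]
    set T := S.mapSurjective (QuotientGroup.mk'_surjective (pPrimeCore p G))
    have hsup : IsPGroup p ↥((T : Subgroup (G ⧸ pPrimeCore p G)) ⊔ Q) := T.2.to_sup_of_normal_right hQp
    rw [← T.3 hsup le_sup_left]
    exact le_sup_right
  obtain ⟨q₀, hq₀, hq₀1⟩ := Q.bot_or_exists_ne_one.resolve_left hQ
  obtain ⟨s₀, hs₀, rfl⟩ := hQT hq₀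
  have hall : ∀ s ∈ (S : Subgroup G), π s ∈ Q := by
    intro s hs
    by_cases hs1 : s = 1
    · rw [hs1, map_one]; exact one_mem _
    obtain ⟨g, hg⟩ := isConj_iff.1 (hc s₀ s (fun e => hq₀1 (by rw [e, map_one])) hs1
      (pel_of_mem S.2 hs₀) (pel_of_mem S.2 hs))
    rw [← hg, map_mul, map_mul, map_inv]
    exact Subgroup.Normal.conj_mem inferInstance _ hq₀ _
  obtain ⟨⟨⟨z, hzS⟩, hz⟩, hz1⟩ := exists_ne (1 : Subgroup.center (S : Subgroup G))
  have hz1' : z ≠ 1 := fun e => hz1 (Subtype.ext (Subtype.ext e))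
  refine ⟨⟨⟨fun a b => Subtype.ext ?_⟩⟩, hexp⟩
  obtain ⟨a, ha⟩ := a; obtain ⟨b, hb⟩ := b
  show a * b = b * a
  by_cases ha1 : a = 1
  · simp [ha1]
  obtain ⟨g, hg⟩ := isConj_iff.1 (hc z a hz1' ha1 (pel_of_mem S.2 hzS) (pel_of_mem S.2 ha))
  obtain ⟨t, ht, htb⟩ := hQT ((Subgroup.Normal.conj_mem (inferInstance : Q.Normal) _ (hall b hb)
    (π g)⁻¹))
  have hzt : Commute z t := (congrArg Subtype.val (Subgroup.mem_center_iff.1 hz ⟨t, ht⟩)).symm
  have hcomm : Commute (π a) (π b) := by
    have e : π b = π g * π t * (π g)⁻¹ := by rw [htb]; group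
    rw [e, ← hg, map_mul, map_mul, map_inv]
    exact (hzt.map π).map (MulAut.conj (π g)).toMonoidHom
  refine (mul_inv_eq_iff_eq_mul.1 (?_ : a * b * a⁻¹ = b))
  refine inv_mul_eq_one.1 (hπinj _ (mul_mem (inv_mem (mul_mem (mul_mem ha hb) (inv_mem ha))) hb) ?_)
  rw [map_mul, map_inv, map_mul, map_mul, map_inv, hcomm.eq, mul_inv_cancel_right, inv_mul_cancel]

/-- The regular part commutes with induction. -/
lemma pRegularPart_indFun (T : Subgroup G) (θ : T → ℂ) :
    pRegularPart p (indFun T θ) = indFun T (pRegularPart p θ) := by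
  classical
  funext g
  rw [pRegularPart_apply, indFun_apply, indFun_apply]
  have key : ∀ x : G, extendByZero T (pRegularPart p θ) (x⁻¹ * g * x) =
      if p ∣ orderOf g then 0 else extendByZero T θ (x⁻¹ * g * x) := by
    intro x
    by_cases hx : x⁻¹ * g * x ∈ T
    · rw [extendByZero_mem _ hx, extendByZero_mem _ hx, pRegularPart_apply]
      have e : orderOf (⟨x⁻¹ * g * x, hx⟩ : T) = orderOf g := by
        rw [Subgroup.orderOf_mk]
        simpa using (MulAut.conj x⁻¹).orderOf_eq g
      rw [e]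
    · rw [extendByZero_not_mem _ hx, extendByZero_not_mem _ hx, ite_self]
  simp only [key]
  split_ifs with h <;> simp

/-- `p`-solvable groups. -/
theorem pSolvable_case (hM : IsPModular p M) : ∀ (n : ℕ) {G : Type u} [Group G] [Fintype G],
    Nat.card G = n → IsPSolvable p G → ∀ B : Set (IrrCharacter G), IsPBlock M B →
      Nat.card B ≤ blockRank p B + 1 → ∀ D : Subgroup G, IsDefectGroup p M B D →
        IsElementaryAbelian p D := by
  haveI := Fact.mk hM.1
  intro n
  induction n using Nat.strong_induction_on with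
  | _ n ih =>
  intro G _ _ hn hsolv B hB hk D hD
  classical
  haveI : (pPrimeCore p G).Normal := Components.pPrimeCore_normal' p
  set N := pPrimeCore p G with hN
  letI : Fintype N := Fintype.ofFinite N
  have hNp : ¬ p ∣ Nat.card N :=
    hM.1.coprime_iff_not_dvd.1 (Components.coprime_card_pPrimeCore p).symm
  obtain ⟨χ, hχ⟩ := IsPBlock.nonempty hM hB
  obtain ⟨θ, hθ⟩ := exists_irr_constituent N χ
  have hint : Integral M (blockElem ({θ} : Set (IrrCharacter N))) := integral_blockElem_pPrime hM hNp _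
  have hb : IsPBlock M ({θ} : Set (IrrCharacter N)) := by
    refine ⟨θ, Set.eq_singleton_iff_unique_mem.2 ⟨mem_blockOf_self hM θ, fun ψ hψ => ?_⟩ |>.symm⟩
    exact blockOf_subset_of_integral hM hint (Set.mem_singleton θ) hψ
  set T := inertia N (θ : N → ℂ) with hTd
  have hT : ∀ g, g ∈ T ↔ cjIrr N g '' ({θ} : Set (IrrCharacter N)) = {θ} := fun g => by
    rw [hTd, mem_inertia, Set.image_singleton, Set.singleton_eq_singleton_iff, Subtype.ext_iff,
      cjIrr_val]
  by_cases hTtop : T = ⊤
  · have hinv : ∀ g : G, conjN N g (θ : N → ℂ) = θ := fun g =>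
      mem_inertia.1 (hTtop ▸ Subgroup.mem_top g : g ∈ T)
    obtain ⟨B₀, hB₀, hiff, hfull, hsyl⟩ := pSolvable_block_over hM hsolv N hN θ
      (fun g => Subtype.ext (by rw [cjIrr_val]; exact hinv g))
      (GaschutzYen.isPSolvable_quotient N hsolv)
    obtain rfl : B = B₀ := IsPBlock.eq_of_mem_inter hM hB hB₀ hχ ((hiff χ).2 hθ)
    obtain ⟨S, rfl⟩ := hsyl D hD
    refine elementary_of_pSolvable_conj hsolv (one_class hM hB hk fun x _ hx => ?_).1 S
    have hpg : IsPGroup p (Subgroup.zpowers x) := by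
      obtain ⟨k, hk⟩ := hx; exact IsPGroup.of_card (by rw [Nat.card_zpowers, hk])
    obtain ⟨R, hR⟩ := hpg.exists_le_sylow
    refine (exists_inducing_iff hM hpg
      (Subgroup.zpowers_le.2 (Subgroup.mem_centralizer_singleton_iff.2 rfl))
      (centralizer_zpowers x).le ?_ hB).2 ⟨R, hfull R, 1, ?_⟩
    · rw [← centralizer_zpowers]; exact Subgroup.centralizer_le_normalizer _
    · rintro _ ⟨y, hy, rfl⟩
      simpa using hR hy
  · letI : Fintype T := Fintype.ofFinite T
    have hNT : N ≤ T := le_inertia (isClassFunction_irr θ)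
    obtain ⟨B', hB', hcov, hind⟩ := reynolds_surjective hM hb hT hNT hB ⟨χ, hχ, θ, rfl, hθ⟩
    obtain ⟨B₀, hind₀, -, hirr, hmem⟩ := reynolds hM hb hT hNT hB' hcov
    obtain ⟨ψ₀, hψ₀⟩ := IsPBlock.nonempty hM hB'
    obtain rfl : B = B₀ := by
      rw [eq_blockOf_of_induced hM hind hψ₀ ⟨_, hirr ψ₀ hψ₀⟩ rfl,
        eq_blockOf_of_induced hM hind₀ hψ₀ ⟨_, hirr ψ₀ hψ₀⟩ rfl]
    have hcard : Nat.card B' ≤ Nat.card B := by
      refine Nat.card_le_card_of_injective
        (fun ψ : B' => (⟨⟨_, hirr ψ ψ.2⟩, (hmem _).2 ⟨ψ, ψ.2, rfl⟩⟩ : B)) fun ψ₁ ψ₂ he => ?_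
      have he' : indFun T ((ψ₁ : IrrCharacter T) : T → ℂ) = indFun T ((ψ₂ : IrrCharacter T) : T → ℂ) :=
        congrArg (fun f : B => ((f : IrrCharacter G) : G → ℂ)) he
      obtain ⟨χ₁, e₁, -, d₁⟩ := exists_induced_of_over hM hb hT hNT ψ₁
        (omega_resElem_bx_of_mem hM hb hT hNT hB' hcov ψ₁.2)
      obtain ⟨χ₂, e₂, -, d₂⟩ := exists_induced_of_over hM hb hT hNT ψ₂
        (omega_resElem_bx_of_mem hM hb hT hNT hB' hcov ψ₂.2)
      refine Subtype.ext (Subtype.ext ?_)
      rw [← d₁, ← d₂, e₁.trans (he'.trans e₂.symm)]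
    have hrank : blockRank p B ≤ blockRank p B' := by
      let L : (T → ℂ) →ₗ[ℂ] G → ℂ :=
        { toFun := indFun T, map_add' := indFun_add T, map_smul' := indFun_smul T }
      refine le_trans (Submodule.finrank_mono (Submodule.span_le.2 ?_ : _ ≤
        (Submodule.span ℂ ((fun ψ : IrrCharacter T => pRegularPart p (ψ : T → ℂ)) '' B')).map L))
        (Submodule.finrank_map_le L _)
      rintro _ ⟨η, hη, rfl⟩
      obtain ⟨ψ, hψ, hη'⟩ := (hmem η).1 hη
      refine ⟨pRegularPart p (ψ : T → ℂ), Submodule.subset_span ⟨ψ, hψ, rfl⟩, ?_⟩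
      show indFun T (pRegularPart p (ψ : T → ℂ)) = pRegularPart p (η : G → ℂ)
      rw [hη', pRegularPart_indFun]
    obtain ⟨D', hD'⟩ := exists_defectGroup hM hB'
    obtain ⟨hdef, -⟩ := reynolds_defect hM hb hT hNT hB' hcov hind
    obtain ⟨a, ha⟩ := IsDefectGroup.exists_eq_conj hM hB (hdef D' hD') hD
    have hlt : Nat.card T < n := by
      rw [← hn]
      exact lt_of_le_of_ne (Nat.le_of_dvd Nat.card_pos T.card_subgroup_dvd_card)
        fun h => hTtop (Subgroup.eq_top_of_card_eq _ h)
    obtain ⟨hcomm, hexp⟩ := ih _ hlt rfl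
      (SolvStruct.CoprimeOrbits.isPSolvable_subgroup hsolv hM.1 T) B' hB' (by omega) D' hD'
    rw [ha]
    refine ⟨⟨⟨?_⟩⟩, ?_⟩
    · rintro ⟨_, _, ⟨d, hd, rfl⟩, rfl⟩ ⟨_, _, ⟨e, he, rfl⟩, rfl⟩
      have := congrArg Subtype.val (hcomm.is_comm.comm ⟨d, hd⟩ ⟨e, he⟩)
      refine Subtype.ext ?_
      exact (show Commute d e from this).map
        ((MulAut.conj a).toMonoidHom.comp T.subtype) |>.eq
    · rintro _ ⟨_, ⟨d, hd, rfl⟩, rfl⟩
      rw [← map_pow, ← map_pow, hexp d hd, map_one, map_one]

end Cfsg.Lib.OneClass
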