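import Mathlib

/-!
An anisotropic quadratic map between vector spaces over the field with two elements has source of dimension at
most twice that of the target.
-/

set_option autoImplicit false
set_option linter.style.haveILetI false
set_option linter.unusedSectionVars false

namespace Cfsg.Lib.OneClass

open Module

variable {W W' : Type*} [AddCommGroup W] [AddCommGroup W']

/-- `f` has degree at most `D`: every `D + 1`-fold derivative vanishes. -/
def Deg : ℕ → (W → ZMod 2) → Prop
  | 0, f => ∀ u w, f (u + w) = f w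
  | D + 1, f => ∀ u, Deg D fun w => f (u + w) + f w

theorem deg_shift : ∀ (D : ℕ) (f : W → ZMod 2) (v : W), Deg D f → Deg D fun w => f (v + w)
  | 0, f, v, h => fun u w => show f (v + (u + w)) = f (v + w) by rw [add_left_comm, h]
  | D + 1, f, v, h => fun u => by
    have := deg_shift D _ v (h u)
    show Deg D fun w => f (v + (u + w)) + f (v + w)
    simpa only [add_left_comm v u] using this

theorem deg_succ : ∀ (D : ℕ) (f : W → ZMod 2), Deg D f → Deg (D + 1) f
  | 0, f, h => fun u v w => by
    show f (u + (v + w)) + f (v + w) = f (u + w) + f w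
    rw [h u, h u, CharTwo.add_self_eq_zero, CharTwo.add_self_eq_zero]
  | D + 1, _, h => fun u => deg_succ D _ (h u)

theorem deg_const : ∀ (D : ℕ) (c : ZMod 2), Deg D (fun _ : W => c)
  | 0, _ => fun _ _ => rfl
  | D + 1, c => fun _ => deg_const D (c + c)

theorem deg_add : ∀ (D : ℕ) (f g : W → ZMod 2), Deg D f → Deg D g → Deg D (fun w => f w + g w)
  | 0, f, g, hf, hg => fun u w => show f (u + w) + g (u + w) = f w + g w by rw [hf, hg]
  | D + 1, f, g, hf, hg => fun u => by
    have := deg_add D _ _ (hf u) (hg u)
    show Deg D fun w => f (u + w) + g (u + w) + (f w + g w)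
    simpa only [add_add_add_comm] using this

theorem deg_zero_const {f : W → ZMod 2} (h : Deg 0 f) (w : W) : f w = f 0 := by
  simpa using h w 0

theorem deg_mul : ∀ (S D E : ℕ) (f g : W → ZMod 2), D + E = S → Deg D f → Deg E g → Deg S (fun w => f w * g w)
  | 0, D, E, f, g, h, hf, hg => by
    obtain ⟨rfl, rfl⟩ : D = 0 ∧ E = 0 := by omega
    exact fun u w => show f (u + w) * g (u + w) = f w * g w by rw [hf, hg]
  | S + 1, D, E, f, g, h, hf, hg => fun u => by
    have h1 : Deg S fun w => (f (u + w) + f w) * g (u + w) := by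
      match D, hf with
      | 0, hf =>
        have e : (fun w => (f (u + w) + f w) * g (u + w)) = fun _ => 0 := funext fun w => by
          rw [hf, CharTwo.add_self_eq_zero, zero_mul]
        rw [e]; exact deg_const S 0
      | D + 1, hf => exact deg_mul S D E _ _ (by omega) (hf u) (deg_shift E g u hg)
    have h2 : Deg S fun w => f w * (g (u + w) + g w) := by
      match E, hg with
      | 0, hg =>
        have e : (fun w => f w * (g (u + w) + g w)) = fun _ => 0 := funext fun w => by
          rw [hg, CharTwo.add_self_eq_zero, mul_zero]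
        rw [e]; exact deg_const S 0
      | E + 1, hg => exact deg_mul S D E _ _ (by omega) hf (hg u)
    have := deg_add S _ _ h1 h2
    show Deg S fun w => f (u + w) * g (u + w) + f w * g w
    have e : (fun w => f (u + w) * g (u + w) + f w * g w) =
        fun w => (f (u + w) + f w) * g (u + w) + f w * (g (u + w) + g w) := funext fun w => by
      linear_combination (-(f w * g (u + w))) * (CharTwo.two_eq_zero (R := ZMod 2))
    rw [e]; exact this

theorem deg_comp : ∀ (D : ℕ) (f : W' → ZMod 2) (φ : W →+ W'), Deg D f → Deg D fun w => f (φ w)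
  | 0, f, φ, h => fun u w => show f (φ (u + w)) = f (φ w) by rw [map_add, h]
  | D + 1, f, φ, h => fun u => by
    have := deg_comp D _ φ (h (φ u))
    show Deg D fun w => f (φ (u + w)) + f (φ w)
    simpa only [map_add] using this

theorem sum_zero : ∀ (d D : ℕ) (f : (Fin d → ZMod 2) → ZMod 2), Deg D f → D < d → ∑ w, f w = 0
  | 0, D, _, _, h => absurd h (Nat.not_lt_zero D)
  | d + 1, D, f, hf, hD => by
    rw [← (Fin.consEquiv fun _ => ZMod 2).sum_comp, Fintype.sum_prod_type, Finset.sum_comm]
    let ι : (Fin d → ZMod 2) →+ (Fin (d + 1) → ZMod 2) :=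
      AddMonoidHom.mk' (fun v => Fin.cons (0 : ZMod 2) v) fun a b => by
        ext i; refine Fin.cases ?_ ?_ i <;> simp
    have he : ∀ v : Fin d → ZMod 2, (Fin.cons (1 : ZMod 2) v : Fin (d + 1) → ZMod 2) = Fin.cons 1 0 + ι v := fun v => by
      ext i; refine Fin.cases ?_ ?_ i <;> simp [ι]
    have hsum : ∀ v : Fin d → ZMod 2, ∑ b : ZMod 2, f (Fin.cons b v) = f (Fin.cons 1 0 + ι v) + f (ι v) := fun v => by
      rw [← he]
      exact (Fin.sum_univ_two (fun b : Fin 2 => f (Fin.cons (b : ZMod 2) v))).trans (add_comm _ _)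
    show ∑ v, ∑ b, f (Fin.cons b v) = 0
    simp only [hsum]
    match D, hf with
    | 0, hf => exact Finset.sum_eq_zero fun v _ => by rw [hf, CharTwo.add_self_eq_zero]
    | D + 1, hf => exact sum_zero d D _ (deg_comp D _ ι (hf _)) (by omega)

/-- The dimension bound. -/
theorem finrank_le_of_anisotropic [Module (ZMod 2) W] [Finite W] [Module (ZMod 2) W'] [Finite W'] (q : W → W')
    (b : W → W → W') (hb : ∀ u v w, b u (v + w) = b u v + b u w) (hq : ∀ u w, q (u + w) = q u + q w + b u w)
    (h0 : ∀ w, q w = 0 ↔ w = 0) : finrank (ZMod 2) W ≤ 2 * finrank (ZMod 2) W' := by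
  classical
  by_contra! hlt
  set d := finrank (ZMod 2) W
  let e := (Module.finBasis (ZMod 2) W).equivFun.symm
  let c := (Module.finBasis (ZMod 2) W').equivFun
  let f : Fin (finrank (ZMod 2) W') → (Fin d → ZMod 2) → ZMod 2 := fun l v => c (q (e v)) l + 1
  have hf : ∀ l, Deg 2 (f l) := by
    intro l u v z x
    have h : ∀ x y : Fin d → ZMod 2, c (q (e (x + y))) l = c (q (e x)) l + c (q (e y)) l + c (b (e x) (e y)) l := by
      intro x y; rw [map_add e, hq, map_add, map_add]; rfl
    have hb' : ∀ x y z : Fin d → ZMod 2,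
        c (b (e x) (e (y + z))) l = c (b (e x) (e y)) l + c (b (e x) (e z)) l := by
      intro x y z; rw [map_add e, hb, map_add]; rfl
    simp only [f, h, hb']
    ring_nf
    simp only [CharTwo.two_eq_zero, show (4 : ZMod 2) = 0 from rfl, mul_zero, zero_mul, add_zero, zero_add]
  have hprod : ∀ s : Finset (Fin (finrank (ZMod 2) W')), Deg (2 * s.card) fun v => ∏ l ∈ s, f l v := by
    intro s
    induction s using Finset.induction_on with
    | empty => simp only [Finset.prod_empty]; exact deg_const _ _
    | insert a s ha ih =>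
      simp only [Finset.prod_insert ha]
      exact deg_mul _ 2 _ _ _ (by rw [Finset.card_insert_of_notMem ha]; ring) (hf a) ih
  have hs := sum_zero d _ _ (hprod Finset.univ) (by rw [Finset.card_univ, Fintype.card_fin]; exact hlt)
  rw [Finset.sum_eq_single (0 : Fin d → ZMod 2) (fun v _ hv => ?_) (fun h => absurd (Finset.mem_univ _) h)] at hs
  · have hz : q (e 0) = 0 := (h0 _).2 (map_zero e)
    simp [f, (h0 0).2 rfl] at hs
  · obtain ⟨l, hl⟩ : ∃ l, c (q (e v)) l ≠ 0 := by
      by_contra! h
      refine hv (e.injective (((h0 _).1 (c.injective ?_)).trans (map_zero e).symm))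
      rw [map_zero]
      exact funext h
    refine Finset.prod_eq_zero (Finset.mem_univ l) ?_
    show c (q (e v)) l + 1 = 0
    exact (show ∀ z : ZMod 2, z ≠ 0 → z + 1 = 0 by decide) _ hl

end Cfsg.Lib.OneClass
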