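import Mathlib

/-!
Coprime actions: minimal invariant subgroups that are not centralised.
-/

set_option autoImplicit false
set_option linter.style.haveILetI false
set_option linter.unusedSectionVars false

namespace Cfsg.Lib.OneClass

open Subgroup
open scoped commutatorElement

variable {G : Type*} [Group G] [Finite G]

/-- `Q` is invariant under conjugation by the elements of `I`. -/
def Inv (I : Set G) (Q : Subgroup G) : Prop := ∀ g ∈ I, ∀ u ∈ Q, g * u * g⁻¹ ∈ Q

/-- Every element of `A` centralises `Q`. -/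
def Cent (A : Set G) (Q : Subgroup G) : Prop := ∀ x ∈ A, ∀ u ∈ Q, Commute x u

theorem twist {s : ℕ} {x a : G} (hx : (orderOf x).Coprime s) {P : Subgroup G} (hP : IsPGroup s P) (ha : a ∈ P)
    (hxa : x * a * x⁻¹ ∈ P) (h : Commute x (a⁻¹ * (x * a * x⁻¹))) : Commute x a := by
  set d := a⁻¹ * (x * a * x⁻¹) with hd
  have hi : ∀ i : ℕ, x ^ i * a * (x ^ i)⁻¹ = a * d ^ i := by
    intro i
    induction i with
    | zero => simp
    | succ i ih =>
      calc x ^ (i + 1) * a * (x ^ (i + 1))⁻¹ = x * (x ^ i * a * (x ^ i)⁻¹) * x⁻¹ := by rw [pow_succ']; group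
        _ = x * (a * d ^ i) * x⁻¹ := by rw [ih]
        _ = (x * a * x⁻¹) * (x * d ^ i * x⁻¹) := by group
        _ = (a * d) * (x * d ^ i * x⁻¹) := by rw [hd, mul_inv_cancel_left]
        _ = a * d ^ (i + 1) := by rw [(h.pow_right i).eq, mul_inv_cancel_right, mul_assoc, ← pow_succ']
  have h1 := hi (orderOf x)
  rw [pow_orderOf_eq_one, one_mul, inv_one, mul_one, left_eq_mul] at h1
  obtain ⟨k, hk⟩ := hP ⟨d, P.mul_mem (P.inv_mem ha) hxa⟩
  have hd1 : d = 1 := orderOf_eq_one_iff.1 (Nat.eq_one_of_dvd_coprimes (hx.pow_right k)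
    (orderOf_dvd_of_pow_eq_one h1) (orderOf_dvd_of_pow_eq_one (congrArg Subtype.val hk : d ^ s ^ k = 1)))
  have h0 := hi 1
  rw [pow_one, hd1, pow_one, mul_one, mul_inv_eq_iff_eq_mul] at h0
  exact h0

/-- The data of a minimal invariant `s`-subgroup which is not centralised. -/
structure MinData (s : ℕ) (I A : Set G) (P : Subgroup G) : Prop where
  prime : s.Prime
  pgroup : IsPGroup s P
  inv : Inv I P
  sub : A ⊆ I
  conj : ∀ g ∈ I, ∀ x ∈ A, g⁻¹ * x * g ∈ A
  coprime : ∀ x ∈ A, (orderOf x).Coprime s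
  not_cent : ¬ Cent A P
  min : ∀ Q : Subgroup G, Q ≤ P → Inv I Q → Q ≠ P → Cent A Q

variable {s : ℕ} {I A : Set G} {P : Subgroup G}

theorem inv_centralizer (hP : Inv I P) {Q : Subgroup G} (hQ : Inv I Q) : Inv I (P ⊓ centralizer (Q : Set G)) := by
  intro g hg u hu
  refine ⟨hP g hg u hu.1, mem_centralizer_iff.2 fun c hc => ?_⟩
  have hc' : g⁻¹ * c * g ∈ Q := by
    have hm : Q.map (MulAut.conj g).toMonoidHom = Q := Subgroup.eq_of_le_of_card_ge
      (by rintro _ ⟨y, hy, rfl⟩; exact hQ g hg y hy)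
      (le_of_eq (Nat.card_congr (Q.equivMapOfInjective _ (MulAut.conj g).injective).toEquiv))
    obtain ⟨y, hy, hyc⟩ := hm.symm ▸ hc
    simp only [MulEquiv.coe_toMonoidHom, MulAut.conj_apply] at hyc
    rw [← hyc]
    simpa [mul_assoc] using hy
  have h1 := mem_centralizer_iff.1 hu.2 _ hc'
  calc c * (g * u * g⁻¹) = g * ((g⁻¹ * c * g) * u) * g⁻¹ := by group
    _ = g * (u * (g⁻¹ * c * g)) * g⁻¹ := by rw [h1]
    _ = g * u * g⁻¹ * c := by group

theorem inv_fixed (hP : Inv I P) (hconj : ∀ g ∈ I, ∀ x ∈ A, g⁻¹ * x * g ∈ A) :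
    Inv I (P ⊓ centralizer A) := by
  intro g hg u hu
  refine ⟨hP g hg u hu.1, mem_centralizer_iff.2 fun x hx => ?_⟩
  have h1 := mem_centralizer_iff.1 hu.2 _ (hconj g hg x hx)
  calc x * (g * u * g⁻¹) = g * ((g⁻¹ * x * g) * u) * g⁻¹ := by group
    _ = g * (u * (g⁻¹ * x * g)) * g⁻¹ := by rw [h1]
    _ = g * u * g⁻¹ * x := by group

theorem MinData.comm_fixed (h : MinData s I A P) : Cent A ⁅P, P⁆ := by
  haveI := Fact.mk h.prime
  refine h.min _ (commutator_le.2 fun a ha b hb => P.mul_mem (P.mul_mem (P.mul_mem ha hb) (P.inv_mem ha))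
    (P.inv_mem hb)) (fun g hg u hu => ?_) ?_
  · have hm : P.map (MulAut.conj g).toMonoidHom ≤ P := by
      rintro _ ⟨b, hb, rfl⟩; exact h.inv g hg b hb
    have h' : g * u * g⁻¹ ∈ ⁅P, P⁆.map (MulAut.conj g).toMonoidHom := ⟨u, hu, rfl⟩
    rw [map_commutator] at h'
    exact commutator_mono hm hm h'
  · haveI : Group.IsNilpotent P := h.pgroup.isNilpotent
    intro e
    haveI : Nontrivial P := by
      rw [Subgroup.nontrivial_iff_ne_bot]
      intro e0
      refine h.not_cent fun x _ u hu => ?_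
      rw [e0, mem_bot] at hu
      rw [hu]
      exact Commute.one_right x
    refine (Group.IsSolvable.commutator_lt_top_of_nontrivial P).ne
      (Subgroup.map_injective P.subtype_injective ?_)
    rw [Subgroup.map_subtype_commutator, e, ← MonoidHom.range_eq_map, range_subtype]

theorem MinData.fixed_central (h : MinData s I A P) {c : G} (hc : c ∈ P) (hcA : ∀ x ∈ A, Commute x c) {u : G}
    (hu : u ∈ P) : c * u = u * c := by
  set C := P ⊓ centralizer A
  have hmemC : c ∈ C := ⟨hc, mem_centralizer_iff.2 fun x hx => hcA x hx⟩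
  suffices hM : P ⊓ centralizer (C : Set G) = P by
    rw [← hM] at hu
    exact mem_centralizer_iff.1 hu.2 c hmemC
  by_contra hne
  have hMx := h.min _ inf_le_left (inv_centralizer h.inv (inv_fixed h.inv h.conj)) hne
  refine h.not_cent fun x hx a ha => ?_
  have hbP := h.inv x (h.sub hx) a ha
  refine twist (h.coprime x hx) h.pgroup ha hbP (hMx x hx _ ⟨P.mul_mem (P.inv_mem ha) hbP,
    mem_centralizer_iff.2 fun d hd => ?_⟩)
  set b := x * a * x⁻¹ with hb
  have hdx : Commute x d := mem_centralizer_iff.1 hd.2 x hx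
  have h1 := h.comm_fixed x hx _ (commutator_mem_commutator hd.1 ha)
  have e : x * ⁅d, a⁆ * x⁻¹ = d * b * d⁻¹ * b⁻¹ := by
    have ec : x * d * x⁻¹ = d := by rw [hdx.eq, mul_inv_cancel_right]
    calc x * ⁅d, a⁆ * x⁻¹ = (x * d * x⁻¹) * b * (x * d * x⁻¹)⁻¹ * b⁻¹ := by rw [hb, commutatorElement_def]; group
      _ = _ := by rw [ec]
  rw [h1.eq, mul_inv_cancel_right, commutatorElement_def] at e
  have h2 : a * d * a⁻¹ = b * d * b⁻¹ := by
    calc a * d * a⁻¹ = (d * a * d⁻¹ * a⁻¹)⁻¹ * d := by group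
      _ = (d * b * d⁻¹ * b⁻¹)⁻¹ * d := by rw [e]
      _ = b * d * b⁻¹ := by group
  calc d * (a⁻¹ * b) = a⁻¹ * (a * d * a⁻¹) * b := by group
    _ = a⁻¹ * b * d := by rw [h2]; group

/-- An abelian minimal subgroup is elementary. -/
theorem MinData.exponent_of_comm (h : MinData s I A P) (hab : ∀ a ∈ P, ∀ b ∈ P, a * b = b * a) :
    ∀ u ∈ P, u ^ s = 1 := by
  haveI := Fact.mk h.prime
  let S : Subgroup G :=
    { carrier := {u | ∃ b ∈ P, u = b ^ s}
      one_mem' := ⟨1, P.one_mem, (one_pow s).symm⟩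
      mul_mem' := by
        rintro _ _ ⟨a, ha, rfl⟩ ⟨b, hb, rfl⟩
        exact ⟨a * b, P.mul_mem ha hb, ((show Commute a b from hab a ha b hb).mul_pow s).symm⟩
      inv_mem' := by
        rintro _ ⟨a, ha, rfl⟩
        exact ⟨a⁻¹, P.inv_mem ha, (inv_pow a s).symm⟩ }
  let D : Subgroup G :=
    { carrier := {u | u ∈ P ∧ u ^ s = 1}
      one_mem' := ⟨P.one_mem, one_pow s⟩
      mul_mem' := fun {a b} ha hb => ⟨P.mul_mem ha.1 hb.1, by
        rw [(show Commute a b from hab a ha.1 b hb.1).mul_pow, ha.2, hb.2, one_mul]⟩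
      inv_mem' := fun {a} ha => ⟨P.inv_mem ha.1, by rw [inv_pow, ha.2, inv_one]⟩ }
  have hSinv : Inv I S := by
    rintro g hg _ ⟨b, hb, rfl⟩
    exact ⟨_, h.inv g hg b hb, (conj_pow).symm⟩
  have hSP : S ≤ P := by rintro _ ⟨b, hb, rfl⟩; exact P.pow_mem hb s
  have hSne : S ≠ P := by
    intro e
    obtain ⟨k, hk⟩ := IsPGroup.iff_card.1 h.pgroup
    have hk0 : k ≠ 0 := fun h0 => h.not_cent fun x _ u hu => by
      have hbot : P = ⊥ := eq_bot_of_card_eq P (by rw [hk, h0, pow_zero])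
      rw [hbot, mem_bot] at hu
      rw [hu]
      exact Commute.one_right x
    obtain ⟨w, hw⟩ := exists_prime_orderOf_dvd_card' (G := P) s (by rw [hk]; exact dvd_pow_self _ hk0)
    have hsurj : Function.Surjective fun u : P => u ^ s := fun u => by
      obtain ⟨b, hb, hub⟩ := (e.symm ▸ u.2 : (u : G) ∈ S)
      exact ⟨⟨b, hb⟩, Subtype.ext hub.symm⟩
    have hw1 : w = 1 := Finite.injective_iff_surjective.2 hsurj
      (show w ^ s = (1 : P) ^ s by rw [one_pow, ← hw, pow_orderOf_eq_one])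
    rw [hw1, orderOf_one] at hw
    exact h.prime.one_lt.ne hw
  have hScent := h.min S hSP hSinv hSne
  intro u hu
  suffices hD : D = P by
    rw [← hD] at hu
    exact hu.2
  by_contra hne
  have hDcent := h.min D (fun u hu => hu.1) (fun g hg u hu => ⟨h.inv g hg u hu.1, by
    rw [conj_pow, hu.2, mul_one, mul_inv_cancel]⟩) hne
  refine h.not_cent fun x hx a ha => ?_
  have hbP := h.inv x (h.sub hx) a ha
  refine twist (h.coprime x hx) h.pgroup ha hbP (hDcent x hx _ ⟨P.mul_mem (P.inv_mem ha) hbP, ?_⟩)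
  rw [(show Commute a⁻¹ (x * a * x⁻¹) from hab _ (P.inv_mem ha) _ hbP).mul_pow, conj_pow,
    (hScent x hx _ ⟨a, ha, rfl⟩).eq, mul_inv_cancel_right, inv_pow, inv_mul_cancel]

/-- In a non-abelian minimal subgroup the centre consists of the fixed elements and contains all `s`-th powers. -/
theorem MinData.structure_of_noncomm (h : MinData s I A P) (hna : ¬ ∀ a ∈ P, ∀ b ∈ P, a * b = b * a) :
    (∀ z : P, z ∈ center P ↔ ∀ x ∈ A, Commute x (z : G)) ∧ (∀ a b : P, a * b * a⁻¹ * b⁻¹ ∈ center P) ∧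
      ∀ a : P, a ^ s ∈ center P := by
  haveI := Fact.mk h.prime
  have hZx : ∀ z : P, z ∈ center P ↔ ∀ x ∈ A, Commute x (z : G) := by
    intro z
    refine ⟨fun hz x hx => ?_, fun hz => mem_center_iff.2 fun b => Subtype.ext (h.fixed_central z.2 hz b.2).symm⟩
    exact h.min (P ⊓ centralizer (P : Set G)) inf_le_left (inv_centralizer h.inv h.inv)
      (fun e => hna fun a ha b hb => by rw [← e] at hb; exact mem_centralizer_iff.1 hb.2 a ha)
      x hx z ⟨z.2, mem_centralizer_iff.2 fun c hc => congrArg Subtype.val (mem_center_iff.1 hz ⟨c, hc⟩)⟩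
  have hcl : ∀ a b : P, a * b * a⁻¹ * b⁻¹ ∈ center P := fun a b =>
    (hZx _).2 fun x hx => h.comm_fixed x hx _ (commutator_mem_commutator a.2 b.2)
  refine ⟨hZx, hcl, ?_⟩
  letI : CommGroup (P ⧸ center P) :=
    { (inferInstance : Group (P ⧸ center P)) with
      mul_comm := fun u w => by
        induction u using QuotientGroup.induction_on with
        | H a =>
          induction w using QuotientGroup.induction_on with
          | H b =>
            rw [← QuotientGroup.mk_mul, ← QuotientGroup.mk_mul, QuotientGroup.eq]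
            have := hcl b⁻¹ a⁻¹
            simpa [mul_assoc] using this }
  haveI : Nontrivial (P ⧸ center P) := by
    rcases subsingleton_or_nontrivial (P ⧸ center P) with h' | h'
    · refine absurd (fun a ha b hb => ?_) hna
      have hz : (⟨b, hb⟩ : P) ∈ center P := (QuotientGroup.eq_one_iff _).1 (Subsingleton.elim _ _)
      exact congrArg Subtype.val (mem_center_iff.1 hz ⟨a, ha⟩)
    · exact h'
  set S := ((powMonoidHom s : P ⧸ center P →* P ⧸ center P).range.comap (QuotientGroup.mk' (center P))).map P.subtype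
  have hS' : ∀ a, a ∈ S ↔ ∃ b z : P, z ∈ center P ∧ a = (b : G) ^ s * z := by
    intro a
    simp only [S, Subgroup.mem_map, Subgroup.mem_comap, MonoidHom.mem_range, powMonoidHom_apply,
      QuotientGroup.mk'_apply, Subgroup.coe_subtype]
    constructor
    · rintro ⟨c, ⟨w, hw⟩, rfl⟩
      induction w using QuotientGroup.induction_on with
      | H b =>
        rw [← QuotientGroup.mk_pow, QuotientGroup.eq] at hw
        exact ⟨b, _, hw, by simp⟩
    · rintro ⟨b, z, hz, rfl⟩
      exact ⟨b ^ s * z, ⟨b, by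
        rw [QuotientGroup.mk_mul, QuotientGroup.mk_pow, (QuotientGroup.eq_one_iff z).2 hz, mul_one]⟩, by simp⟩
  have hSP : S ≤ P := by
    intro a ha
    obtain ⟨b, z, -, rfl⟩ := (hS' a).1 ha
    exact P.mul_mem (P.pow_mem b.2 s) z.2
  have hSne : S ≠ P := by
    intro e
    obtain ⟨k, hk⟩ := IsPGroup.iff_card.1 (h.pgroup.to_quotient (center P))
    have hk0 : k ≠ 0 := fun h0 => by
      have := Finite.one_lt_card (α := P ⧸ center P)
      rw [hk, h0, pow_zero] at this
      exact lt_irrefl 1 this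
    obtain ⟨w, hw⟩ := exists_prime_orderOf_dvd_card' (G := P ⧸ center P) s (by rw [hk]; exact dvd_pow_self _ hk0)
    have hsurj : Function.Surjective (powMonoidHom s : P ⧸ center P →* P ⧸ center P) := by
      intro u
      induction u using QuotientGroup.induction_on with
      | H a =>
        obtain ⟨b, z, hz, hab⟩ := (hS' (a : G)).1 (e.symm ▸ a.2)
        refine ⟨b, ?_⟩
        rw [show a = b ^ s * z from Subtype.ext (by simpa using hab)]
        rw [powMonoidHom_apply, QuotientGroup.mk_mul, QuotientGroup.mk_pow, (QuotientGroup.eq_one_iff z).2 hz,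
          mul_one]
    have hw1 : w = 1 := (Finite.injective_iff_surjective.2 hsurj)
      (show w ^ s = (1 : P ⧸ center P) ^ s by rw [one_pow, ← hw, pow_orderOf_eq_one])
    rw [hw1, orderOf_one] at hw
    exact h.prime.one_lt.ne hw
  have hSinv : Inv I S := by
    intro g hg c hc
    obtain ⟨b, z, hz, rfl⟩ := (hS' c).1 hc
    refine (hS' _).2 ⟨⟨_, h.inv g hg b b.2⟩, ⟨_, h.inv g hg z z.2⟩, (hZx _).2 fun x hx => ?_, ?_⟩
    · have h1 := (hZx z).1 hz _ (h.conj g hg x hx)
      show x * (g * z * g⁻¹) = g * z * g⁻¹ * x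
      calc x * (g * z * g⁻¹) = g * ((g⁻¹ * x * g) * z) * g⁻¹ := by group
        _ = g * ((z : G) * (g⁻¹ * x * g)) * g⁻¹ := by rw [h1.eq]
        _ = g * z * g⁻¹ * x := by group
    · show g * ((b : G) ^ s * z) * g⁻¹ = (g * b * g⁻¹) ^ s * (g * z * g⁻¹)
      rw [conj_pow]; group
  exact fun a => (hZx _).2 fun x hx => h.min S hSP hSinv hSne x hx _ ((hS' _).2 ⟨a, 1, one_mem _, by simp⟩)

end Cfsg.Lib.OneClass
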