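import Mathlib
import Cfsg.Agent.LinearPerm.SolvableTransitive.Basic
import Cfsg.Agent.OneClass.Minimal

/-!
An element of large prime power order acting on a linear group in characteristic two of small dimension.
-/

set_option autoImplicit false
set_option linter.style.haveILetI false
set_option linter.unusedSectionVars false

namespace Cfsg.Lib.OneClass

open Module Subgroup Cfsg.Lib.SolvableTransitive

/-- The fixed points of a permutation of prime power order. -/
theorem card_fixed_modEq {X : Type*} [Finite X] {p k : ℕ} [Fact p.Prime] (f : Equiv.Perm X)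
    (hf : f ^ p ^ k = 1) : Nat.card X ≡ Nat.card {x : X // f x = x} [MOD p] := by
  have hP : IsPGroup p (Subgroup.zpowers f) := by
    obtain ⟨i, -, hi⟩ := (Nat.dvd_prime_pow (Fact.out : p.Prime)).1 (orderOf_dvd_of_pow_eq_one hf)
    exact IsPGroup.iff_card.2 ⟨i, by rw [Nat.card_zpowers, hi]⟩
  have h := hP.card_modEq_card_fixedPoints X
  rwa [Nat.card_congr (Equiv.subtypeEquivRight (p := fun x => x ∈ MulAction.fixedPoints (Subgroup.zpowers f) X)
    (q := fun x => f x = x) fun x => ⟨fun h => h ⟨f, Subgroup.mem_zpowers f⟩, fun h g => by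
      obtain ⟨i, hi⟩ := g.2
      show (g : Equiv.Perm X) x = x
      rw [← hi]
      exact Equiv.Perm.zpow_apply_eq_self_of_apply_eq_self h i⟩)] at h

variable {W : Type*} [AddCommGroup W] [Module (ZMod 2) W] [Finite W] [Nontrivial W]
  {Γ : Type*} [Group Γ] [Finite Γ] (τ : Γ →* Module.End (ZMod 2) W)

/-- A fixed-point-free element of `p`-power order: `p` does not divide a dimension below `2 p`. -/
theorem not_dvd_finrank {p k : ℕ} [Fact p.Prime] (hp2 : p ≠ 2) {a : Γ} (ha : a ^ p ^ k = 1)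
    (hfix : ∀ v, τ a v = v → v = 0) (hd : finrank (ZMod 2) W < 2 * p) : ¬ p ∣ finrank (ZMod 2) W := by
  intro hdvd
  obtain ⟨c, hc⟩ := hdvd
  have hc1 : c = 1 := by
    have h0 : 0 < finrank (ZMod 2) W := finrank_pos
    rcases c with _ | _ | c
    · omega
    · rfl
    · rw [hc] at hd; nlinarith
  let f : Equiv.Perm W := Equiv.ofBijective (τ a) (Finite.injective_iff_bijective.1 (tau_injective τ a))
  have hf : f ^ p ^ k = 1 := by
    have : ∀ i v, (f ^ i) v = τ (a ^ i) v := by
      intro i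
      induction i with
      | zero => intro v; simp
      | succ i ih => intro v; rw [pow_succ', pow_succ', map_mul, Equiv.Perm.mul_apply, ih]; rfl
    ext v
    rw [this, ha, map_one]
    rfl
  have h := card_fixed_modEq f hf
  have h1 : Nat.card {v : W // f v = v} = 1 :=
    Nat.card_eq_one_iff_unique.2 ⟨⟨fun u w => Subtype.ext ((hfix _ u.2).trans (hfix _ w.2).symm)⟩, ⟨⟨0, map_zero (τ a)⟩⟩⟩
  rw [h1, Module.natCard_eq_pow_finrank (K := ZMod 2) (V := W), Nat.card_zmod, hc, hc1, mul_one] at h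
  haveI : Fact (Nat.Prime 2) := ⟨Nat.prime_two⟩
  have h2 : ((2 ^ p : ℕ) : ZMod p) = ((1 : ℕ) : ZMod p) := (ZMod.natCast_eq_natCast_iff _ _ _).2 h
  rw [Nat.cast_pow, ZMod.pow_card] at h2
  have h3 : ((1 : ℕ) : ZMod p) = 0 := by push_cast at h2 ⊢; linear_combination h2
  exact (Fact.out : p.Prime).one_lt.ne' (Nat.dvd_one.1 ((ZMod.natCast_eq_zero_iff 1 p).1 h3))

/-- The algebra spanned by an abelian subgroup of odd order. -/
theorem span_facts {B : Subgroup Γ} (hB : ∀ a ∈ B, ∀ b ∈ B, a * b = b * a) (hodd : Odd (Nat.card B)) :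
    (∀ k ∈ Algebra.adjoin (ZMod 2) (τ '' (B : Set Γ)), ∀ l ∈ Algebra.adjoin (ZMod 2) (τ '' (B : Set Γ)), Commute k l) ∧
    (∃ m, 1 < m ∧ ∀ k ∈ Algebra.adjoin (ZMod 2) (τ '' (B : Set Γ)), k ^ m = k) ∧
    finrank (ZMod 2) (Algebra.adjoin (ZMod 2) (τ '' (B : Set Γ))) ≤ finrank (ZMod 2) W := by
  classical
  haveI : Fact (Nat.Prime 2) := ⟨Nat.prime_two⟩
  haveI : Finite (Module.End (ZMod 2) W) := finite_end
  haveI : CharP (Module.End (ZMod 2) W) 2 := charP_of_injective_algebraMap (algebraMap (ZMod 2) _).injective 2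
  set K := Algebra.adjoin (ZMod 2) (τ '' (B : Set Γ)) with hK
  have hcomm : ∀ k ∈ K, ∀ l ∈ K, Commute k l := by
    have h1 : ∀ s ∈ τ '' (B : Set Γ), ∀ t ∈ τ '' (B : Set Γ), Commute s t := by
      rintro _ ⟨a, ha, rfl⟩ _ ⟨b, hb, rfl⟩
      rw [commute_iff_eq, ← map_mul, ← map_mul, hB a ha b hb]
    intro k hk l hl
    refine Algebra.commute_of_mem_adjoin_of_forall_mem_commute hl fun s hs => ?_
    exact (Algebra.commute_of_mem_adjoin_of_forall_mem_commute hk fun t ht => h1 s hs t ht).symm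
  set j := (Nat.card B).totient
  have hj : 0 < j := Nat.totient_pos.2 Nat.card_pos
  set m := 2 ^ j with hm
  have hm1 : 1 < m := Nat.one_lt_pow hj.ne' one_lt_two
  have hpow : ∀ k ∈ K, k ^ m = k := by
    intro k hk
    induction hk using Algebra.adjoin_induction with
    | mem y hy =>
      obtain ⟨a, ha, rfl⟩ := hy
      have hmod : m ≡ 1 [MOD Nat.card B] := Nat.ModEq.pow_totient hodd.coprime_two_left
      rw [← map_pow]
      refine congrArg τ ?_
      have h2 : (⟨a, ha⟩ : B) ^ m = (⟨a, ha⟩ : B) ^ 1 := by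
        rw [← pow_mod_natCard, hmod, pow_mod_natCard]
      simpa using congrArg Subtype.val h2
    | algebraMap c => rw [← map_pow, hm, ZMod.pow_card_pow]
    | add y z hy hz iy iz => rw [hm, add_pow_char_pow_of_commute 2 j (hcomm y hy z hz), ← hm, iy, iz]
    | mul y z hy hz iy iz => rw [(hcomm y hy z hz).mul_pow, iy, iz]
  refine ⟨hcomm, ⟨m, hm1, hpow⟩, ?_⟩
  let Ann : W → Set (Module.End (ZMod 2) W) := fun v => {k | k ∈ K ∧ k v = 0}
  obtain ⟨v, hv⟩ := Finite.exists_min fun v => Nat.card (Ann v)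
  have hann : ∀ k ∈ K, k v = 0 → k = 0 := by
    intro k hk hkv
    by_contra hk0
    set e := k ^ (m - 1) with he
    have hek : e * k = k := by rw [he, ← pow_succ, Nat.sub_add_cancel hm1.le, hpow k hk]
    have heK : e ∈ K := pow_mem hk _
    have hev : e v = 0 := by
      rw [he, show m - 1 = m - 2 + 1 by omega, pow_succ, Module.End.mul_apply, hkv, map_zero]
    have hee : e * e = e := by
      have h2 : e * e = k ^ (m - 2) * (e * k) := by
        rw [he, ← pow_succ, ← pow_add, ← pow_add]; congr 1; omega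
      rw [h2, hek, ← pow_succ, show m - 2 + 1 = m - 1 by omega, he]
    obtain ⟨w, hw⟩ : ∃ w, e w ≠ 0 := by
      by_contra! hc
      exact hk0 (by rw [← hek, show e = 0 from LinearMap.ext hc, zero_mul])
    have hew : e (v + e w) = e w := by rw [map_add, hev, zero_add, ← Module.End.mul_apply, hee]
    have hsub : Ann (v + e w) ⊂ Ann v := by
      refine Set.ssubset_iff_of_subset ?_ |>.2 ⟨e, ⟨heK, hev⟩, fun h => hw (hew.symm.trans h.2)⟩
      rintro l ⟨hl, hlv⟩
      refine ⟨hl, ?_⟩
      have h1 : e (l (v + e w)) = 0 := by rw [hlv, map_zero]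
      rw [← Module.End.mul_apply, (hcomm e heK l hl).eq, Module.End.mul_apply, hew] at h1
      rwa [map_add, h1, add_zero] at hlv
    have := Set.ncard_lt_ncard hsub (Set.toFinite _)
    exact absurd (hv (v + e w)) (not_le.2 (by simpa [← Nat.card_coe_set_eq] using this))
  let ev : K →ₗ[ZMod 2] W :=
    { toFun := fun k => (k : Module.End (ZMod 2) W) v, map_add' := fun _ _ => rfl, map_smul' := fun _ _ => rfl }
  exact LinearMap.finrank_le_finrank_of_injective (f := ev) ((injective_iff_map_eq_zero ev).2 fun k hk =>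
    Subtype.ext (hann k k.2 hk))

set_option maxHeartbeats 800000 in
/-- An element of `p`-power order centralises an abelian subgroup of odd order which it normalises, provided the
commutators have no common fixed point and the dimension is below `2 p` and not equal to `p`. -/
theorem commute_of_abelian_two {p k : ℕ} [Fact p.Prime] {g : Γ} (hg : g ^ p ^ k = 1) {B : Subgroup Γ}
    (hB : ∀ a ∈ B, ∀ b ∈ B, a * b = b * a) (hodd : Odd (Nat.card B)) (hinj : ∀ b ∈ B, τ b = 1 → b = 1)
    (hgB : ∀ b ∈ B, g * b * g⁻¹ ∈ B)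
    (hfix : ∀ v, (∀ b ∈ B, τ (g * b * g⁻¹ * b⁻¹) v = v) → v = 0)
    (hd : finrank (ZMod 2) W < 2 * p) (hdvd : ¬ p ∣ finrank (ZMod 2) W) : ∀ b ∈ B, Commute g b := by
  classical
  haveI : Fact (Nat.Prime 2) := ⟨Nat.prime_two⟩
  haveI : Finite (Module.End (ZMod 2) W) := finite_end
  obtain ⟨hcomm, ⟨m, hm1, hpow⟩, hdim⟩ := span_facts τ hB hodd
  set K := Algebra.adjoin (ZMod 2) (τ '' (B : Set Γ))
  letI : CommRing K := { (inferInstance : Ring K) with mul_comm := fun a b => Subtype.ext (hcomm a a.2 b b.2) }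
  have hmemK : ∀ b ∈ B, τ b ∈ K := fun b hb => Algebra.subset_adjoin ⟨b, hb, rfl⟩
  haveI : Finite K := Subtype.finite
  let L := AlgebraicClosure (ZMod 2)
  haveI : CharP L 2 := charP_of_injective_algebraMap (algebraMap (ZMod 2) L).injective 2
  -- homomorphisms into the algebraic closure
  have hli := linearIndependent_algHom_toLinearMap (ZMod 2) K L
  haveI : FiniteDimensional L (K →ₗ[ZMod 2] L) := inferInstance
  haveI : Finite (K →ₐ[ZMod 2] L) := hli.finite
  haveI : Fintype (K →ₐ[ZMod 2] L) := Fintype.ofFinite _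
  have hcard : Fintype.card (K →ₐ[ZMod 2] L) ≤ finrank (ZMod 2) W := by
    refine hli.fintype_card_le_finrank.trans (le_trans (le_of_eq ?_) hdim)
    rw [Module.finrank_linearMap, Module.finrank_self, mul_one]
  have hsep : ∀ k : K, (∀ χ : K →ₐ[ZMod 2] L, χ k = 0) → k = 0 := by
    intro k hk
    by_contra hk0
    set e := k ^ (m - 1) with he
    have hek : e * k = k := by
      rw [he, ← pow_succ, Nat.sub_add_cancel hm1.le]; exact Subtype.ext (hpow k k.2)
    have hnu : ¬ IsUnit (1 - e) := by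
      intro hu
      refine hk0 (hu.mul_right_eq_zero.1 ?_)
      rw [sub_mul, one_mul, hek, sub_self]
    obtain ⟨M, hM, hmem⟩ := exists_max_ideal_of_mem_nonunits hnu
    letI := Ideal.Quotient.field M
    haveI : Finite (K ⧸ M) := Quotient.finite _
    haveI : Algebra.IsAlgebraic (ZMod 2) (K ⧸ M) := Algebra.IsAlgebraic.of_finite _ _
    have h0 := hk ((IsAlgClosed.lift (R := ZMod 2) (S := K ⧸ M) (M := L)).comp (Ideal.Quotient.mkₐ (ZMod 2) M))
    rw [AlgHom.comp_apply, map_eq_zero, Ideal.Quotient.mkₐ_eq_mk,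
      Ideal.Quotient.eq_zero_iff_mem] at h0
    have he1 : e ∈ M := by
      rw [he, show m - 1 = m - 2 + 1 by omega, pow_succ]
      exact M.mul_mem_left _ h0
    exact hM.ne_top ((Ideal.eq_top_iff_one M).2 (by simpa using M.add_mem hmem he1))
  -- conjugation
  let c : Module.End (ZMod 2) (Module.End (ZMod 2) W) :=
    (LinearMap.mulLeft (ZMod 2) (τ g)).comp (LinearMap.mulRight (ZMod 2) (τ g⁻¹))
  have hcapp : ∀ k, c k = τ g * (k * τ g⁻¹) := fun k => rfl
  have hcmul : ∀ k l, c (k * l) = c k * c l := by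
    intro k l
    simp only [hcapp, mul_assoc]
    rw [← mul_assoc (τ g⁻¹) (τ g), ← map_mul, inv_mul_cancel, map_one, one_mul]
  have hc1 : c 1 = 1 := by rw [hcapp, one_mul, ← map_mul, mul_inv_cancel, map_one]
  have hctau : ∀ b, c (τ b) = τ (g * b * g⁻¹) := fun b => by rw [hcapp, ← map_mul, ← map_mul, ← mul_assoc]
  have hcK : ∀ k ∈ K, c k ∈ K := by
    intro k hk
    induction hk using Algebra.adjoin_induction with
    | mem y hy =>
      obtain ⟨a, ha, rfl⟩ := hy
      rw [hctau]
      exact hmemK _ (hgB a ha)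
    | algebraMap t =>
      rw [Algebra.algebraMap_eq_smul_one, map_smul, hc1]
      exact Subalgebra.smul_mem _ (one_mem K) t
    | add y z hy hz iy iz => rw [map_add]; exact add_mem iy iz
    | mul y z hy hz iy iz => rw [hcmul]; exact mul_mem iy iz
  let γ : K →ₐ[ZMod 2] K :=
    AlgHom.mk' { toFun := fun k => ⟨c k, hcK k k.2⟩
                 map_one' := Subtype.ext hc1
                 map_mul' := fun a b => Subtype.ext (hcmul a b)
                 map_zero' := Subtype.ext (map_zero c)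
                 map_add' := fun a b => Subtype.ext (map_add c _ _) }
      fun t a => Subtype.ext (map_smul c t _)
  let σ : (K →ₐ[ZMod 2] L) → (K →ₐ[ZMod 2] L) := fun χ => χ.comp γ
  have hγi : ∀ i : ℕ, ∀ k : K, ((γ : K → K)^[i] k : Module.End (ZMod 2) W) = τ (g ^ i) * (k * τ (g⁻¹ ^ i)) := by
    intro i
    induction i with
    | zero => intro k; simp
    | succ i ih =>
      intro k
      rw [Function.iterate_succ_apply']
      show c _ = _
      rw [ih, hcapp, pow_succ', pow_succ, map_mul, map_mul]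
      simp only [mul_assoc]
  have hσi : ∀ i : ℕ, ∀ χ k, (σ^[i] χ) k = χ ((γ : K → K)^[i] k) := by
    intro i
    induction i with
    | zero => intro χ k; rfl
    | succ i ih => intro χ k; rw [Function.iterate_succ_apply, Function.iterate_succ_apply', ih]; rfl
  have hσper : ∀ χ, Function.IsPeriodicPt σ (p ^ k) χ := fun χ => AlgHom.ext fun x => by
    rw [hσi]
    congr 1
    refine Subtype.ext ?_
    rw [hγi, inv_pow, hg, inv_one, map_one, one_mul, mul_one]
  -- no character is fixed
  have hmoved : ∀ χ : K →ₐ[ZMod 2] L, σ χ ≠ χ := by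
    intro χ hχ
    let δ : B →* B := MonoidHom.mk' (fun b => ⟨g * b * g⁻¹ * (b : Γ)⁻¹, B.mul_mem (hgB b b.2) (B.inv_mem b.2)⟩)
      fun a b => Subtype.ext (by
        show g * ((a : Γ) * b) * g⁻¹ * ((a : Γ) * b)⁻¹ = (g * a * g⁻¹ * (a : Γ)⁻¹) * (g * b * g⁻¹ * (b : Γ)⁻¹)
        have h1 : (a : Γ)⁻¹ * (g * b * g⁻¹) = (g * b * g⁻¹) * (a : Γ)⁻¹ := hB _ (B.inv_mem a.2) _ (hgB b b.2)
        have h2 : (b : Γ)⁻¹ * (a : Γ)⁻¹ = (a : Γ)⁻¹ * (b : Γ)⁻¹ := hB _ (B.inv_mem b.2) _ (B.inv_mem a.2)
        calc g * ((a : Γ) * b) * g⁻¹ * ((a : Γ) * b)⁻¹ = (g * a * g⁻¹) * ((g * b * g⁻¹) * ((b : Γ)⁻¹ * (a : Γ)⁻¹)) := by group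
          _ = (g * a * g⁻¹) * (((g * b * g⁻¹) * (a : Γ)⁻¹) * (b : Γ)⁻¹) := by rw [h2, mul_assoc (g * b * g⁻¹)]
          _ = _ := by rw [← h1]; simp only [mul_assoc])
    haveI : Fintype δ.range := Fintype.ofFinite _
    let E : Module.End (ZMod 2) W := ∑ y : δ.range, τ ((y : B) : Γ)
    have hE : E = 0 := by
      refine LinearMap.ext fun v => hfix _ fun b hb => ?_
      show τ ((δ ⟨b, hb⟩ : B) : Γ) (E v) = E v
      simp only [E, LinearMap.sum_apply, map_sum]
      refine Fintype.sum_equiv (Equiv.mulLeft (⟨δ ⟨b, hb⟩, ⟨b, hb⟩, rfl⟩ : δ.range)) _ _ fun y => ?_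
      rw [← Module.End.mul_apply, ← map_mul]
      rfl
    have hEK : K.val (∑ y : δ.range, (⟨τ ((y : B) : Γ), hmemK _ (y : B).2⟩ : K)) = E := by
      rw [map_sum]; rfl
    have h0 : χ (∑ y : δ.range, (⟨τ ((y : B) : Γ), hmemK _ (y : B).2⟩ : K)) = 0 := by
      rw [show (∑ y : δ.range, (⟨τ ((y : B) : Γ), hmemK _ (y : B).2⟩ : K)) = 0 from Subtype.ext (hEK.trans hE), map_zero]
    rw [map_sum, Finset.sum_congr rfl (g := fun _ => (1 : L)) fun y _ => ?_, Finset.sum_const, Finset.card_univ,
      nsmul_one] at h0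
    · rw [CharP.cast_eq_zero_iff L 2, ← Nat.card_eq_fintype_card] at h0
      exact (Nat.not_even_iff_odd.2 (hodd.of_dvd_nat (Subgroup.card_subgroup_dvd_card δ.range)))
        (even_iff_two_dvd.2 h0)
    obtain ⟨_, b, rfl⟩ := y
    have h1 := AlgHom.congr_fun hχ ⟨τ b, hmemK _ b.2⟩
    have hu : χ ⟨τ ((b : Γ)⁻¹), hmemK _ (B.inv_mem b.2)⟩ * χ ⟨τ b, hmemK _ b.2⟩ = 1 := by
      rw [← map_mul, show (⟨τ ((b : Γ)⁻¹), hmemK _ (B.inv_mem b.2)⟩ : K) * ⟨τ b, hmemK _ b.2⟩ = 1 from
        Subtype.ext (by show τ _ * τ _ = 1; rw [← map_mul, inv_mul_cancel, map_one]), map_one]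
    show χ ⟨τ ((δ b : B) : Γ), _⟩ = 1
    rw [show (⟨τ ((δ b : B) : Γ), hmemK _ (δ b).2⟩ : K) =
      γ ⟨τ b, hmemK _ b.2⟩ * ⟨τ ((b : Γ)⁻¹), hmemK _ (B.inv_mem b.2)⟩ from Subtype.ext (by
        show τ (g * b * g⁻¹ * (b : Γ)⁻¹) = c (τ b) * τ ((b : Γ)⁻¹)
        rw [hctau, ← map_mul]), map_mul, show χ (γ ⟨τ b, hmemK _ b.2⟩) = χ ⟨τ b, hmemK _ b.2⟩ from h1, mul_comm]
    exact hu
  by_contra hne
  push Not at hne
  obtain ⟨b₀, hb₀, hb₀g⟩ := hne
  have hp : p.Prime := Fact.out
  have hkey : ∀ χ : K →ₐ[ZMod 2] L, Function.minimalPeriod σ χ = p := by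
    intro χ
    obtain ⟨i, -, hi⟩ := (Nat.dvd_prime_pow hp).1 (hσper χ).minimalPeriod_dvd
    have hi0 : i ≠ 0 := fun h => hmoved χ (Function.minimalPeriod_eq_one_iff_isFixedPt.1 (by rw [hi, h, pow_zero]))
    have hle : Function.minimalPeriod σ χ ≤ Fintype.card (K →ₐ[ZMod 2] L) := by
      rw [← Fintype.card_fin (Function.minimalPeriod σ χ)]
      exact Fintype.card_le_of_injective (fun j : Fin _ => σ^[j] χ) fun u w h =>
        Fin.ext (Function.iterate_injOn_Iio_minimalPeriod u.2 w.2 h)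
    rw [hi] at hle ⊢
    rcases i with _ | _ | i
    · exact absurd rfl hi0
    · simp
    · exfalso
      have : p * 2 ≤ p ^ (i + 2) := by
        calc p * 2 ≤ p * p := Nat.mul_le_mul_left p hp.two_le
          _ = p ^ 2 := (sq p).symm
          _ ≤ p ^ (i + 2) := Nat.pow_le_pow_right hp.pos (by omega)
      rw [show i + 1 + 1 = i + 2 from rfl] at hle
      omega
  have horbit : ∀ χ ψ : K →ₐ[ZMod 2] L, ∃ j, σ^[j] χ = ψ := by
    intro χ ψ
    by_contra! hnot
    let F : Fin p ⊕ Fin p → (K →ₐ[ZMod 2] L) := Sum.elim (fun j => σ^[j] χ) (fun j => σ^[j] ψ)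
    have hF : Function.Injective F := by
      rintro (u | u) (w | w) h
      · exact congrArg Sum.inl (Fin.ext (Function.iterate_injOn_Iio_minimalPeriod
          ((hkey χ).symm ▸ u.2) ((hkey χ).symm ▸ w.2) h))
      · exfalso
        have h' := congrArg (σ^[p - w]) h
        simp only [F, Sum.elim_inl, Sum.elim_inr, ← Function.iterate_add_apply] at h'
        rw [show p - (w : ℕ) + w = p by omega] at h'
        have hψ : σ^[p] ψ = ψ := by
          have := Function.iterate_minimalPeriod (f := σ) (x := ψ)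
          rwa [hkey ψ] at this
        exact hnot _ (h'.trans hψ)
      · exfalso
        have h' := congrArg (σ^[p - u]) h
        simp only [F, Sum.elim_inl, Sum.elim_inr, ← Function.iterate_add_apply] at h'
        rw [show p - (u : ℕ) + u = p by omega] at h'
        have hψ : σ^[p] ψ = ψ := by
          have := Function.iterate_minimalPeriod (f := σ) (x := ψ)
          rwa [hkey ψ] at this
        exact hnot _ (hψ.symm.trans h').symm
      · exact congrArg Sum.inr (Fin.ext (Function.iterate_injOn_Iio_minimalPeriod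
          ((hkey ψ).symm ▸ u.2) ((hkey ψ).symm ▸ w.2) h))
    have := Fintype.card_le_of_injective F hF
    simp only [Fintype.card_sum, Fintype.card_fin] at this
    omega
  -- Frobenius
  let φ : (K →ₐ[ZMod 2] L) → (K →ₐ[ZMod 2] L) := fun χ =>
    { (frobenius L 2).comp χ.toRingHom with
      commutes' := fun t => RingHom.congr_fun (Subsingleton.elim
        (((frobenius L 2).comp χ.toRingHom).comp (algebraMap (ZMod 2) K)) (algebraMap (ZMod 2) L)) t }
  have hφ : ∀ χ k, φ χ k = χ k ^ 2 := fun χ k => rfl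
  have hb₀B : g * b₀ * g⁻¹ ∈ B := hgB b₀ hb₀
  obtain ⟨x, hxB, hx1, hxr⟩ : ∃ x ∈ B, x ≠ 1 ∧ (orderOf x).Prime := by
    have hnt : (1 : Γ) ≠ b₀ := fun h => hb₀g (h ▸ Commute.one_right g)
    obtain ⟨r, hr, hrd⟩ := Nat.exists_prime_and_dvd (n := Nat.card B) (by
      intro h1
      rw [Subgroup.card_eq_one.1 h1, mem_bot] at hb₀
      exact hnt hb₀.symm)
    haveI := Fact.mk hr
    obtain ⟨y, hy⟩ := exists_prime_orderOf_dvd_card' (G := B) r hrd
    exact ⟨y, y.2, fun h => by rw [← Subgroup.orderOf_coe, h, orderOf_one] at hy; exact hr.one_lt.ne hy,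
      by rw [Subgroup.orderOf_coe, hy]; exact hr⟩
  set r := orderOf x with hrdef
  haveI := Fact.mk hxr
  set kx : K := ⟨τ x, hmemK x hxB⟩
  obtain ⟨χ₀, hχ₀⟩ : ∃ χ : K →ₐ[ZMod 2] L, χ (kx - 1) ≠ 0 := by
    by_contra! h
    exact hx1 (hinj x hxB (congrArg Subtype.val (sub_eq_zero.1 (hsep _ h))))
  rw [map_sub, map_one, sub_ne_zero] at hχ₀
  have hkxr : kx ^ r = 1 := Subtype.ext (by
    show τ x ^ r = 1
    rw [← map_pow, hrdef, pow_orderOf_eq_one, map_one])
  have hlam : orderOf (χ₀ kx) = r := orderOf_eq_prime (by rw [← map_pow, hkxr, map_one]) hχ₀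
  -- Frobenius acts as a power of the conjugation
  obtain ⟨i, hi⟩ := horbit χ₀ (φ χ₀)
  have hφσ : ∀ j, ∀ χ, φ (σ^[j] χ) = σ^[j] (φ χ) := fun j χ => AlgHom.ext fun k => by
    rw [hφ, hσi, hσi, hφ]
  have hiter : ∀ n, φ^[n] χ₀ = σ^[i * n] χ₀ := by
    intro n
    induction n with
    | zero => rfl
    | succ n ih =>
      rw [Function.iterate_succ_apply', ih, hφσ, ← hi, ← Function.iterate_add_apply, Nat.mul_succ]
  have hφn : ∀ n k, (φ^[n] χ₀) k = χ₀ k ^ 2 ^ n := by
    intro n
    induction n with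
    | zero => intro k; simp
    | succ n ih => intro k; rw [Function.iterate_succ_apply', hφ, ih, ← pow_mul, ← pow_succ]
  have hp2 : (2 : ℕ) ^ p ≡ 1 [MOD r] := by
    have h := hφn p kx
    rw [hiter, mul_comm i, Function.iterate_mul] at h
    have hfx : (σ^[p])^[i] χ₀ = χ₀ := by
      refine Function.iterate_fixed ?_ i
      have := Function.iterate_minimalPeriod (f := σ) (x := χ₀)
      rwa [hkey χ₀] at this
    rw [hfx] at h
    rw [← hlam]
    have hne : χ₀ kx ≠ 0 := fun e => by
      have : χ₀ kx ^ r = 1 := by rw [← map_pow, hkxr, map_one]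
      rw [e, zero_pow hxr.ne_zero] at this
      exact zero_ne_one this
    have h1 : χ₀ kx ^ (2 ^ p - 1) = 1 := by
      refine mul_right_cancel₀ hne ?_
      rw [← pow_succ, Nat.sub_add_cancel (Nat.one_le_two_pow), one_mul]
      exact h.symm
    exact ((Nat.modEq_iff_dvd' Nat.one_le_two_pow).2 (orderOf_dvd_of_pow_eq_one h1)).symm
  -- every character is faithful on x
  have hall : ∀ χ : K →ₐ[ZMod 2] L, χ kx ≠ 1 := by
    intro χ h1
    obtain ⟨j, hj⟩ := horbit χ (φ χ)
    -- `x` and its conjugates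
    have hconj : ∀ l, ∀ ψ : K →ₐ[ZMod 2] L, (σ^[l] ψ) kx = ψ ⟨τ (g ^ l * x * (g ^ l)⁻¹),
        hmemK _ (by
          induction l with
          | zero => simpa using hxB
          | succ l ih => simpa [pow_succ', mul_assoc] using hgB _ ih)⟩ := by
      intro l ψ
      rw [hσi]
      congr 1
      refine Subtype.ext ?_
      rw [hγi]
      show τ (g ^ l) * (τ x * τ (g⁻¹ ^ l)) = τ _
      rw [← map_mul, ← map_mul, inv_pow, ← mul_assoc]
    obtain ⟨l, hl⟩ := horbit χ χ₀
    obtain ⟨l', hl'⟩ := horbit χ₀ χ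
    -- powers of Frobenius reach every character of the orbit
    have hi0 : ¬ p ∣ i := by
      rintro ⟨t, rfl⟩
      refine hχ₀ ?_
      have hfx : (σ^[p])^[t] χ₀ = χ₀ := by
        refine Function.iterate_fixed ?_ t
        have := Function.iterate_minimalPeriod (f := σ) (x := χ₀)
        rwa [hkey χ₀] at this
      rw [Function.iterate_mul, hfx] at hi
      have h := AlgHom.congr_fun hi kx
      rw [hφ, sq] at h
      have hne : χ₀ kx ≠ 0 := fun e => by
        have : χ₀ kx ^ r = 1 := by rw [← map_pow, hkxr, map_one]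
        rw [e, zero_pow hxr.ne_zero] at this
        exact zero_ne_one this
      exact (mul_eq_left₀ hne).1 h.symm
    obtain ⟨n, hn⟩ : ∃ n, i * n ≡ l' [MOD p] := by
      refine ⟨((i : ZMod p)⁻¹ * l').val, (ZMod.natCast_eq_natCast_iff _ _ _).1 ?_⟩
      rw [Nat.cast_mul, ZMod.natCast_val, ZMod.cast_id', id_eq, ← mul_assoc, mul_inv_cancel₀, one_mul]
      exact fun h => hi0 ((ZMod.natCast_eq_zero_iff _ _).1 h)
    have heq : φ^[n] χ₀ = χ := by
      rw [hiter, ← hl']
      rw [← Function.iterate_mod_minimalPeriod_eq (n := i * n), ← Function.iterate_mod_minimalPeriod_eq (n := l'),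
        hkey χ₀]
      exact congrArg (fun j => σ^[j] χ₀) hn
    rw [← heq, hφn] at h1
    have h2 := orderOf_dvd_of_pow_eq_one h1
    rw [hlam] at h2
    have := hxr.dvd_of_dvd_pow h2
    have hr2 : r = 2 := (Nat.prime_dvd_prime_iff_eq hxr Nat.prime_two).1 this
    exact (Nat.not_even_iff_odd.2 hodd) (even_iff_two_dvd.2 (hr2 ▸ hrdef ▸ Subgroup.orderOf_dvd_natCard B hxB))
  have hunit : IsUnit (kx - 1) := by
    by_contra hnu
    obtain ⟨M, hM, hmem⟩ := exists_max_ideal_of_mem_nonunits hnu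
    letI := Ideal.Quotient.field M
    haveI : Finite (K ⧸ M) := Quotient.finite _
    haveI : Algebra.IsAlgebraic (ZMod 2) (K ⧸ M) := Algebra.IsAlgebraic.of_finite _ _
    refine hall ((IsAlgClosed.lift (R := ZMod 2) (S := K ⧸ M) (M := L)).comp (Ideal.Quotient.mkₐ (ZMod 2) M)) ?_
    rw [← sub_eq_zero, ← map_one ((IsAlgClosed.lift (R := ZMod 2) (S := K ⧸ M) (M := L)).comp
      (Ideal.Quotient.mkₐ (ZMod 2) M)), ← map_sub, AlgHom.comp_apply, Ideal.Quotient.mkₐ_eq_mk,
      Ideal.Quotient.eq_zero_iff_mem.2 hmem, map_zero]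
  obtain ⟨u, hu⟩ := hunit
  have hfpf : ∀ v, τ x v = v → v = 0 := by
    intro v hv
    have h : ((↑u⁻¹ : K) : Module.End (ZMod 2) W) (((kx - 1 : K) : Module.End (ZMod 2) W) v) = v := by
      rw [← Module.End.mul_apply, ← hu]
      exact LinearMap.congr_fun (congrArg Subtype.val u.inv_mul) v
    rw [← h]
    show ((↑u⁻¹ : K) : Module.End (ZMod 2) W) (τ x v - v) = 0
    rw [hv, sub_self, map_zero]
  let f : Equiv.Perm W := Equiv.ofBijective (τ x) (Finite.injective_iff_bijective.1 (tau_injective τ x))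
  have hf : f ^ r ^ 1 = 1 := by
    have : ∀ i v, (f ^ i) v = τ (x ^ i) v := by
      intro i
      induction i with
      | zero => intro v; simp
      | succ i ih => intro v; rw [pow_succ', pow_succ', map_mul, Equiv.Perm.mul_apply, ih]; rfl
    ext v
    rw [this, pow_one, hrdef, pow_orderOf_eq_one, map_one]
    rfl
  have hdr : (2 : ℕ) ^ finrank (ZMod 2) W ≡ 1 [MOD r] := by
    have h := card_fixed_modEq f hf
    rwa [show Nat.card {v : W // f v = v} = 1 from
      Nat.card_eq_one_iff_unique.2 ⟨⟨fun u w => Subtype.ext ((hfpf _ u.2).trans (hfpf _ w.2).symm)⟩, ⟨⟨0, map_zero (τ x)⟩⟩⟩,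
      Module.natCard_eq_pow_finrank (K := ZMod 2) (V := W), Nat.card_zmod] at h
  have hg1 : (2 : ℕ) ^ Nat.gcd p (finrank (ZMod 2) W) ≡ 1 [MOD r] := by
    rw [← ZMod.natCast_eq_natCast_iff] at hp2 hdr ⊢
    push_cast at hp2 hdr ⊢
    exact pow_gcd_eq_one.2 ⟨hp2, hdr⟩
  rw [(hp.coprime_iff_not_dvd.2 hdvd).gcd_eq_one, pow_one] at hg1
  have := (Nat.modEq_iff_dvd' (by norm_num)).1 hg1.symm
  exact hxr.one_lt.ne' (Nat.dvd_one.1 this)

/-- A class two group normalised by an element of large prime power order. -/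
theorem no_class_two {r p k N : ℕ} [Fact r.Prime] [Fact p.Prime] (hr2 : r ≠ 2) (hp2 : p ≠ 2) {a : Γ}
    (ha : a ^ p ^ k = 1) {R : Subgroup Γ} (hdata : MinData r {a} {a} R)
    (hna : ¬ ∀ u ∈ R, ∀ w ∈ R, u * w = w * u) (hinj : ∀ x ∈ R, τ x = 1 → x = 1)
    (hirr : Irr (τ '' (insert a (R : Set Γ)))) (hd : finrank (ZMod 2) W ≤ 2 * N) (hN : N < p) : False := by
  classical
  haveI : Fact (Nat.Prime 2) := ⟨Nat.prime_two⟩
  obtain ⟨hZ, hcl, hpow⟩ := hdata.structure_of_noncomm hna
  let L : Subalgebra (ZMod 2) (Module.End (ZMod 2) W) :=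
    Subalgebra.centralizer (ZMod 2) (τ '' (insert a (R : Set Γ)))
  have hinj' : Function.Injective (τ.comp R.subtype) :=
    (injective_iff_map_eq_one _).2 fun x hx => Subtype.ext (hinj x x.2 hx)
  haveI : Finite (Module.End (ZMod 2) W) := finite_end
  have hind := operators_independent τ R.subtype L
    (fun l hl h0 => inj_of_commute hirr h0 fun t ht => ((Subalgebra.mem_centralizer_iff _).1 hl t ht).symm)
    (fun l hl u => ((Subalgebra.mem_centralizer_iff _).1 hl _ ⟨u, Or.inr u.2, rfl⟩).symm)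
    (fun z hz => (Subalgebra.mem_centralizer_iff _).2 (by
      rintro _ ⟨t, ht, rfl⟩
      rw [← map_mul, ← map_mul]
      refine congrArg τ ?_
      rcases ht with rfl | ht
      · exact ((hZ z).1 hz _ rfl).eq
      · exact congrArg Subtype.val (mem_center_iff.1 hz ⟨t, ht⟩)))
    hcl hinj'
  set Q := R ⧸ center R
  haveI : Fintype Q := Fintype.ofFinite _
  have hQd : Nat.card Q ≤ finrank (ZMod 2) W * finrank (ZMod 2) W := by
    rw [Nat.card_eq_fintype_card]
    exact hind.fintype_card_le_finrank.trans (le_of_eq (Module.finrank_linearMap (ZMod 2) (ZMod 2) W W))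
  haveI hQnt : Nontrivial Q := by
    rcases subsingleton_or_nontrivial Q with h | h
    · refine absurd (fun u hu w hw => ?_) hna
      have hz : (⟨w, hw⟩ : R) ∈ center R := (QuotientGroup.eq_one_iff _).1 (Subsingleton.elim _ _)
      exact congrArg Subtype.val (mem_center_iff.1 hz ⟨u, hu⟩)
    · exact h
  letI : CommGroup Q :=
    { (inferInstance : Group Q) with
      mul_comm := fun u w => by
        induction u using QuotientGroup.induction_on with
        | H a =>
          induction w using QuotientGroup.induction_on with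
          | H b =>
            rw [← QuotientGroup.mk_mul, ← QuotientGroup.mk_mul, QuotientGroup.eq]
            have := hcl b⁻¹ a⁻¹
            simpa [mul_assoc] using this }
  obtain ⟨e, he⟩ := IsPGroup.iff_card.1 (hdata.pgroup.to_quotient (center R))
  -- the centre is cyclic
  have hZcyc : IsCyclic (center R) :=
    cyclic_of_commute hirr ((τ.comp R.subtype).comp (center R).subtype)
      (hinj'.comp (center R).subtype_injective) fun z t ht => by
        obtain ⟨t, ht', rfl⟩ := ht
        rw [commute_iff_eq]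
        show τ _ * τ t = τ t * τ _
        rw [← map_mul, ← map_mul]
        refine congrArg τ ?_
        rcases ht' with rfl | ht'
        · exact (((hZ z).1 z.2 _ rfl).eq).symm
        · exact (congrArg Subtype.val (mem_center_iff.1 z.2 ⟨t, ht'⟩)).symm
  letI : CommGroup (center R) :=
    { (inferInstance : Group (center R)) with mul_comm := fun a b => Subtype.ext (mem_center_iff.1 b.2 a) }
  let β : R → R → center R := fun u w => ⟨u * w * u⁻¹ * w⁻¹, hcl u w⟩
  have hcz : ∀ z : center R, ∀ u : R, u * (z : R) = z * u := fun z u => mem_center_iff.1 z.2 u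
  have hβ : ∀ a b c : R, β a (b * c) = β a b * β a c := fun a b c => Subtype.ext (by
    show a * (b * c) * a⁻¹ * (b * c)⁻¹ = (a * b * a⁻¹ * b⁻¹) * (β a c : R)
    calc a * (b * c) * a⁻¹ * (b * c)⁻¹ = (a * b * a⁻¹) * (β a c : R) * b⁻¹ := by simp only [β]; group
      _ = a * b * a⁻¹ * b⁻¹ * (b * (β a c : R)) * b⁻¹ := by group
      _ = a * b * a⁻¹ * b⁻¹ * (β a c : R) := by rw [hcz (β a c) b]; group)
  have hβ' : ∀ a b : R, β b a = (β a b)⁻¹ := fun a b => Subtype.ext (by simp only [β, Subgroup.coe_inv]; group)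
  have hβl : ∀ a b c : R, β (a * b) c = β a c * β b c := fun a b c => by
    rw [hβ' c (a * b), hβ, mul_inv, ← hβ', ← hβ']
  have hβz : ∀ a z : R, z ∈ center R → β a z = 1 := fun a z hz => Subtype.ext (by
    show a * z * a⁻¹ * z⁻¹ = 1
    rw [mem_center_iff.1 hz a]; group)
  let Bh : R → (Q →* center R) := fun a => QuotientGroup.lift (center R)
    (MonoidHom.mk' (β a) (hβ a)) (fun z hz => hβz a z hz)
  let B : Q →* Q →* center R := QuotientGroup.lift (center R)
    (MonoidHom.mk' Bh fun a b => MonoidHom.ext fun w => by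
      induction w using QuotientGroup.induction_on with | H c => exact hβl a b c)
    (fun z hz => MonoidHom.ext fun w => by
      induction w using QuotientGroup.induction_on with
      | H c =>
        show β z c = 1
        rw [hβ' c z, hβz c z hz, inv_one])
  obtain ⟨t, ht⟩ := square_card (C := center R) (s := r) _ B rfl
    (fun w => by
      induction w using QuotientGroup.induction_on with
      | H a => exact Subtype.ext (show a * a * a⁻¹ * a⁻¹ = 1 by group))
    (fun w u => by
      induction w using QuotientGroup.induction_on with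
      | H a =>
        induction u using QuotientGroup.induction_on with
        | H b =>
          show β a b ^ r = 1
          rw [← show MonoidHom.mk' (β a) (hβ a) b = β a b from rfl, ← map_pow]
          exact hβz a _ (hpow b))
    (fun w hw => by
      induction w using QuotientGroup.induction_on with
      | H a =>
        refine (QuotientGroup.eq_one_iff a).2 (mem_center_iff.2 fun b => ?_)
        have h := congrArg Subtype.val (hw (b : Q))
        change a * b * a⁻¹ * b⁻¹ = (1 : R) at h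
        rw [mul_inv_eq_one, mul_inv_eq_iff_eq_mul] at h
        exact h.symm)
  rw [he] at ht hQd
  obtain ⟨m, -, hm⟩ := (Nat.dvd_prime_pow (Fact.out : r.Prime)).1 (Dvd.intro t ht.symm)
  -- the action of a on the quotient
  have haR : ∀ i : ℕ, ∀ u ∈ R, a ^ i * u * (a ^ i)⁻¹ ∈ R := by
    intro i
    induction i with
    | zero => intro u hu; simpa using hu
    | succ i ih => intro u hu; simpa [pow_succ', mul_assoc] using hdata.inv a rfl _ (ih u hu)
  let cj : R →* R := MonoidHom.mk' (fun u => ⟨a * u * a⁻¹, hdata.inv a rfl u u.2⟩)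
    fun u w => Subtype.ext (by simp only [Subgroup.coe_mul]; group)
  have hcjz : center R ≤ (center R).comap cj := fun z hz => (hZ _).2 (by
    rintro _ rfl
    exact ((Commute.refl _).mul_right ((hZ z).1 hz _ rfl)).mul_right (Commute.refl _).inv_right)
  let fQ : Q →* Q := QuotientGroup.map _ _ cj hcjz
  have hfi : ∀ i : ℕ, ∀ u : R, fQ^[i] (u : Q) = ((⟨a ^ i * u * (a ^ i)⁻¹, haR i u u.2⟩ : R) : Q) := by
    intro i
    induction i with
    | zero => intro u; simp
    | succ i ih =>
      intro u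
      rw [Function.iterate_succ_apply', ih]
      refine congrArg QuotientGroup.mk (Subtype.ext ?_)
      show a * (a ^ i * u * (a ^ i)⁻¹) * a⁻¹ = a ^ (i + 1) * u * (a ^ (i + 1))⁻¹
      rw [pow_succ']; group
  have hper : fQ^[p ^ k] = id := funext fun w => by
    induction w using QuotientGroup.induction_on with
    | H u =>
      rw [hfi]
      exact congrArg QuotientGroup.mk (Subtype.ext (by
        show a ^ p ^ k * u * (a ^ p ^ k)⁻¹ = u
        rw [ha, one_mul, inv_one, mul_one]))
  have hbij : Function.Bijective fQ := by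
    have hpk : p ^ k = p ^ k - 1 + 1 := (Nat.sub_add_cancel (Nat.one_le_pow _ _ (Fact.out : p.Prime).pos)).symm
    refine Finite.injective_iff_bijective.1 fun u w h => ?_
    have := congrArg (fQ^[p ^ k - 1]) h
    rwa [← Function.iterate_succ_apply, ← Function.iterate_succ_apply, Nat.succ_eq_add_one, ← hpk, hper] at this
  have hmod := card_fixed_modEq (p := p) (k := k) (Equiv.ofBijective fQ hbij) (by
    ext w
    have : ∀ i w, ((Equiv.ofBijective fQ hbij) ^ i) w = fQ^[i] w := by
      intro i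
      induction i with
      | zero => intro w; rfl
      | succ i ih => intro w; rw [pow_succ', Equiv.Perm.mul_apply, ih, Function.iterate_succ_apply']; rfl
    rw [this, hper]; rfl)
  have hone : Nat.card {w : Q // (Equiv.ofBijective fQ hbij) w = w} = 1 := by
    refine Nat.card_eq_one_iff_unique.2 ⟨⟨?_⟩, ⟨⟨1, map_one fQ⟩⟩⟩
    suffices h : ∀ w : Q, fQ w = w → w = 1 from fun u w => Subtype.ext ((h _ u.2).trans (h _ w.2).symm)
    intro w
    induction w using QuotientGroup.induction_on with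
    | H u =>
      intro hw
      refine (QuotientGroup.eq_one_iff u).2 ((hZ u).2 ?_)
      rintro _ rfl
      exact twist (hdata.coprime _ rfl) hdata.pgroup u.2 (hdata.inv _ rfl u u.2)
        ((hZ _).1 (QuotientGroup.eq.1 hw.symm) _ rfl)
  rw [hone, he, ht, hm] at hmod
  have hrp : r.Prime := Fact.out
  have hle : r ^ m ≤ 2 * N := by
    rw [ht, hm] at hQd
    have := le_trans hQd (Nat.mul_le_mul hd hd)
    nlinarith
  have hm1 : 1 < r ^ m := by
    by_contra h
    have : r ^ m = 1 := le_antisymm (not_lt.1 h) (Nat.one_le_pow _ _ hrp.pos)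
    have h1 := Finite.one_lt_card (α := Q)
    rw [he, ht, hm, this] at h1
    omega
  have hodd : Odd (r ^ m) := (hrp.odd_of_ne_two hr2).pow
  have hd2 : p ∣ r ^ m * r ^ m - 1 := (Nat.modEq_iff_dvd' (by nlinarith)).1 hmod.symm
  rw [show r ^ m * r ^ m - 1 = (r ^ m + 1) * (r ^ m - 1) by
    simpa [sq] using Nat.sq_sub_sq (r ^ m) 1] at hd2
  obtain ⟨j, hj⟩ := hodd
  have h2p : Nat.Coprime p 2 := (Nat.coprime_primes Fact.out Nat.prime_two).2 hp2
  rcases (Nat.Prime.dvd_mul Fact.out).1 hd2 with h | h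
  · rw [hj, show 2 * j + 1 + 1 = 2 * (j + 1) by ring] at h
    have := Nat.le_of_dvd (by omega) (h2p.dvd_of_dvd_mul_left h)
    omega
  · rw [hj, show 2 * j + 1 - 1 = 2 * j by omega] at h
    have := Nat.le_of_dvd (by omega) (h2p.dvd_of_dvd_mul_left h)
    omega

end Cfsg.Lib.OneClass
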