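import Mathlib
import Cfsg.Prelude.Def_Local
import Cfsg.Agent.Coprime.Fitting
import Cfsg.Agent.OneClass.Linear
import Cfsg.Agent.OneClass.Anisotropic

/-!
Groups whose involutions form, with the identity, a subgroup: a fixed-point-free automorphism of that subgroup of
large prime power order centralises the odd subgroups centralising it which it normalises.
-/

set_option autoImplicit false
set_option linter.style.haveILetI false
set_option linter.unusedSectionVars false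

namespace Cfsg.Lib.OneClass

open Module Subgroup Cfsg.Lib.SolvableTransitive
open scoped commutatorElement

variable {G : Type*} [Group G] [Finite G] {V : Subgroup G}

theorem minData_exists {s : ℕ} (hs : s.Prime) {I A : Set G} {P₀ : Subgroup G} (hp : IsPGroup s P₀) (hinv : Inv I P₀)
    (hsub : A ⊆ I) (hconj : ∀ g ∈ I, ∀ x ∈ A, g⁻¹ * x * g ∈ A) (hco : ∀ x ∈ A, (orderOf x).Coprime s)
    (hne : ¬ Cent A P₀) : ∃ P ≤ P₀, MinData s I A P := by
  obtain ⟨P, -, ⟨hP0, hPI, hPA⟩, hmin⟩ := Finite.exists_le_minimal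
    (p := fun P : Subgroup G => P ≤ P₀ ∧ Inv I P ∧ ¬ Cent A P) (a := P₀) ⟨le_rfl, hinv, hne⟩
  exact ⟨P, hP0, hs, hp.to_le hP0, hPI, hsub, hconj, hco, hPA, fun Q hQ hQI hQne => by
    by_contra h
    exact hQne (le_antisymm hQ (hmin ⟨hQ.trans hP0, hQI, h⟩ hQ))⟩

theorem cent_of_involutions (hV : ∀ x, x ∈ V ↔ x * x = 1) {A : Set G} (hA : ∀ x ∈ A, x ∈ centralizer (V : Set G))
    {u : G} (hu : u ^ 2 = 1) {x : G} (hx : x ∈ A) : Commute x u :=
  (mem_centralizer_iff.1 (hA x hx) u ((hV u).2 (by rw [← sq]; exact hu))).symm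

/-- The structure of a minimal invariant 2-subgroup. -/
theorem MinData.two_structure (hV : ∀ x, x ∈ V ↔ x * x = 1) {I A : Set G} {P : Subgroup G}
    (h : MinData 2 I A P) (hA : ∀ x ∈ A, x ∈ centralizer (V : Set G)) (hV' : Inv I V)
    (hVc : ∀ v ∈ V, ∀ u ∈ P, u * v = v * u) (hAodd : (Nat.card (closure A)).Coprime 2) :
    (∀ u ∈ P, u * u ∈ V) ∧ (∀ z : P, z ∈ center P ↔ (z : G) ∈ V) ∧
      (∀ u w : P, u * w * u⁻¹ * w⁻¹ ∈ center P) := by
  classical
  have hna : ¬ ∀ a ∈ P, ∀ b ∈ P, a * b = b * a := fun hab =>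
    h.not_cent fun x hx u hu => cent_of_involutions hV hA (h.exponent_of_comm hab u hu) hx
  obtain ⟨hZ, hcl, hpow⟩ := h.structure_of_noncomm hna
  have hcz : ∀ z ∈ center P, ∀ u : P, (u : G) * z = z * u := fun z hz u =>
    congrArg Subtype.val (mem_center_iff.1 hz u)
  have hVA : ∀ v ∈ V, ∀ x ∈ A, Commute x v := fun v hv x hx => (mem_centralizer_iff.1 (hA x hx) v hv).symm
  -- commutators are involutions
  have hcomm : ∀ u w : P, ((u * w * u⁻¹ * w⁻¹ : P) : G) ∈ V := by
    intro u w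
    rw [hV]
    set c := u * w * u⁻¹ * w⁻¹ with hc
    have hcc := hcl u w
    have h2 : u * u * w = w * (u * u) := (mem_center_iff.1 (by rw [← sq]; exact hpow u) w).symm
    have h1 : u * u * w = c * c * (w * (u * u)) := by
      calc u * u * w = u * (c * (w * u)) := by rw [hc]; group
        _ = (u * c) * (w * u) := (mul_assoc _ _ _).symm
        _ = (c * u) * (w * u) := by rw [mem_center_iff.1 hcc u]
        _ = c * (u * w) * u := by group
        _ = c * (c * (w * u)) * u := by rw [hc]; group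
        _ = c * c * (w * (u * u)) := by simp only [mul_assoc]
    have h3 : c * c = 1 := mul_eq_right.1 (h1.symm.trans h2)
    exact congrArg Subtype.val h3
  -- squares lie in V
  have hVP : ∀ u : G, u ∈ P ⊓ V → u ∈ P ∧ u ∈ V := fun u hu => hu
  let D : Subgroup G :=
    { carrier := {u | u ∈ P ∧ u * u ∈ V}
      one_mem' := ⟨P.one_mem, by simp⟩
      mul_mem' := fun {a b} ha hb => ⟨P.mul_mem ha.1 hb.1, by
        have e : a * b * (a * b) = (a * a) * (a⁻¹ * ((b * a * b⁻¹ * a⁻¹)) * a) * (b * b) := by group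
        rw [e]
        have hc := hcomm ⟨b, hb.1⟩ ⟨a, ha.1⟩
        refine V.mul_mem (V.mul_mem ha.2 ?_) hb.2
        have := hVc _ hc a ha.1
        change a⁻¹ * (b * a * b⁻¹ * a⁻¹) * a ∈ V
        rw [mul_assoc, ← (show a * (b * a * b⁻¹ * a⁻¹) = (b * a * b⁻¹ * a⁻¹) * a from this), inv_mul_cancel_left]
        exact hc⟩
      inv_mem' := fun {a} ha => ⟨P.inv_mem ha.1, by rw [← mul_inv_rev]; exact V.inv_mem ha.2⟩ }
  have hsqV : ∀ u ∈ P, u * u ∈ V := by
    suffices hD : D = P by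
      intro u hu
      rw [← hD] at hu
      exact hu.2
    by_contra hne
    have hDc := h.min D (fun u hu => hu.1) (fun g hg u hu => ⟨h.inv g hg u hu.1, by
      have e : g * u * g⁻¹ * (g * u * g⁻¹) = g * (u * u) * g⁻¹ := by group
      rw [e]
      exact hV' g hg _ hu.2⟩) hne
    refine h.not_cent fun x hx u hu => ?_
    have hb := h.inv x (h.sub hx) u hu
    refine twist (h.coprime x hx) h.pgroup hu hb (hDc x hx _ ⟨P.mul_mem (P.inv_mem hu) hb, ?_⟩)
    set b := x * u * x⁻¹ with hbdef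
    have hbb : b * b = u * u := by
      have h2 := (hZ _).1 (hpow ⟨u, hu⟩) x hx
      rw [Subgroup.coe_pow, sq] at h2
      calc b * b = x * (u * u) * x⁻¹ := by rw [hbdef]; group
        _ = u * u := by rw [h2.eq, mul_inv_cancel_right]
    have hc := hcomm ⟨b, hb⟩ ⟨u⁻¹, P.inv_mem hu⟩
    change b * u⁻¹ * b⁻¹ * u⁻¹⁻¹ ∈ V at hc
    have e : u⁻¹ * b * (u⁻¹ * b) = u⁻¹ * (b * u⁻¹ * b⁻¹ * u⁻¹⁻¹) * u * ((u * u)⁻¹ * (b * b)) := by group
    rw [e, hbb, inv_mul_cancel, mul_one]
    have := hVc _ hc u hu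
    rw [mul_assoc, ← (show u * (b * u⁻¹ * b⁻¹ * u⁻¹⁻¹) = (b * u⁻¹ * b⁻¹ * u⁻¹⁻¹) * u from this), inv_mul_cancel_left]
    exact hc
  refine ⟨hsqV, fun z => ⟨fun hz => ?_, fun hz => (hZ z).2 fun x hx => hVA _ hz x hx⟩, hcl⟩
  -- the centre is contained in V
  set Vp : Subgroup P := V.subgroupOf P
  haveI : Vp.Normal := ⟨fun v hv g => by
    rw [Subgroup.mem_subgroupOf] at hv ⊢
    push_cast
    rw [hVc _ hv g g.2, mul_inv_cancel_right]
    exact hv⟩
  letI : CommGroup (P ⧸ Vp) :=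
    { (inferInstance : Group (P ⧸ Vp)) with
      mul_comm := fun u w => by
        induction u using QuotientGroup.induction_on with
        | H a =>
          induction w using QuotientGroup.induction_on with
          | H b =>
            rw [← QuotientGroup.mk_mul, ← QuotientGroup.mk_mul, QuotientGroup.eq, Subgroup.mem_subgroupOf]
            have := hcomm b⁻¹ a⁻¹
            simpa [mul_assoc] using this }
  -- averaging over a single element
  let S : Subgroup G :=
    { carrier := {u | ∃ hu : u ∈ P, ∀ χ : (P ⧸ Vp) →* P ⧸ Vp,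
        (∀ x ∈ A, ∀ w : P, ∀ hw : x * w * x⁻¹ ∈ P, χ ((⟨x * w * x⁻¹, hw⟩ : P) : P ⧸ Vp) = χ (w : P ⧸ Vp)) →
          χ ((⟨u, hu⟩ : P) : P ⧸ Vp) = 1}
      one_mem' := ⟨P.one_mem, fun χ _ => map_one χ⟩
      mul_mem' := fun {a b} ha hb => ⟨P.mul_mem ha.1 hb.1, fun χ hχ => by
        rw [show (⟨a * b, P.mul_mem ha.1 hb.1⟩ : P) = ⟨a, ha.1⟩ * ⟨b, hb.1⟩ from rfl, QuotientGroup.mk_mul,
          map_mul, ha.2 χ hχ, hb.2 χ hχ, one_mul]⟩
      inv_mem' := fun {a} ha => ⟨P.inv_mem ha.1, fun χ hχ => by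
        rw [show (⟨a⁻¹, P.inv_mem ha.1⟩ : P) = (⟨a, ha.1⟩ : P)⁻¹ from rfl, QuotientGroup.mk_inv, map_inv,
          ha.2 χ hχ, inv_one]⟩ }
  have hScomm : ∀ x ∈ A, ∀ u ∈ P, u⁻¹ * (x * u * x⁻¹) ∈ S := fun x hx u hu =>
    ⟨P.mul_mem (P.inv_mem hu) (h.inv x (h.sub hx) u hu), fun χ hχ => by
      rw [show (⟨u⁻¹ * (x * u * x⁻¹), P.mul_mem (P.inv_mem hu) (h.inv x (h.sub hx) u hu)⟩ : P) =
        (⟨u, hu⟩ : P)⁻¹ * ⟨x * u * x⁻¹, h.inv x (h.sub hx) u hu⟩ from rfl, QuotientGroup.mk_mul, map_mul,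
        QuotientGroup.mk_inv, map_inv, hχ x hx ⟨u, hu⟩ _, inv_mul_cancel]⟩
  -- the subgroup generated by the x-commutators is everything
  set T := closure {y : G | ∃ x ∈ A, ∃ u ∈ P, y = u⁻¹ * (x * u * x⁻¹)}
  have hTP : T ≤ P := (closure_le _).2 (by
    rintro _ ⟨x, hx, u, hu, rfl⟩; exact P.mul_mem (P.inv_mem hu) (h.inv x (h.sub hx) u hu))
  have hTinv : Inv I T := by
    intro g hg y hy
    induction hy using closure_induction with
    | mem y hy =>
      obtain ⟨x, hx, u, hu, rfl⟩ := hy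
      refine subset_closure ⟨g * x * g⁻¹, ?_, g * u * g⁻¹, h.inv g hg u hu, by group⟩
      -- conjugation permutes A
      have hb : Function.Bijective fun y : A => (⟨g⁻¹ * y * g, h.conj g hg y y.2⟩ : A) :=
        Finite.injective_iff_bijective.1 fun u w e => Subtype.ext (by simpa using congrArg Subtype.val e)
      obtain ⟨y, hy⟩ := hb.2 ⟨x, hx⟩
      have e := congrArg Subtype.val hy
      rw [← show g⁻¹ * (y : G) * g = x from e]
      convert y.2 using 1
      group
    | one => simp [T.one_mem]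
    | mul y z _ _ iy iz =>
      have e : g * (y * z) * g⁻¹ = (g * y * g⁻¹) * (g * z * g⁻¹) := by group
      rw [e]; exact T.mul_mem iy iz
    | inv y _ iy =>
      have e : g * y⁻¹ * g⁻¹ = (g * y * g⁻¹)⁻¹ := by group
      rw [e]; exact T.inv_mem iy
  have hTeq : T = P := by
    by_contra hne
    have hTc := h.min T hTP hTinv hne
    exact h.not_cent fun x hx u hu => twist (h.coprime x hx) h.pgroup hu (h.inv x (h.sub hx) u hu)
      (hTc x hx _ (subset_closure ⟨x, hx, u, hu, rfl⟩))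
  have hzS : (z : G) ∈ S := (closure_le _).2 (by rintro _ ⟨x, hx, u, hu, rfl⟩; exact hScomm x hx u hu)
    (hTeq.symm ▸ z.2 : (z : G) ∈ T)
  -- average over the group generated by the actors
  set X := closure A
  have hXP : ∀ x ∈ X, (∀ u ∈ P, x * u * x⁻¹ ∈ P) ∧ Commute x (z : G) := by
    intro x hx
    induction hx using closure_induction_left with
    | one => exact ⟨fun u hu => by simpa using hu, Commute.one_left _⟩
    | mul_left a ha y _ iy =>
      refine ⟨fun u hu => ?_, ((hZ z).1 hz a ha).mul_left iy.2⟩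
      have := h.inv a (h.sub ha) _ (iy.1 u hu)
      convert this using 1; group
    | inv_mul_cancel a ha y _ iy =>
      refine ⟨fun u hu => ?_, ((hZ z).1 hz a ha).inv_left.mul_left iy.2⟩
      have hm : P.map (MulAut.conj a).toMonoidHom = P := Subgroup.eq_of_le_of_card_ge
        (by rintro _ ⟨y, hy, rfl⟩; exact h.inv a (h.sub ha) y hy)
        (le_of_eq (Nat.card_congr (P.equivMapOfInjective _ (MulAut.conj a).injective).toEquiv))
      obtain ⟨w, hw, hwe⟩ := (hm.symm ▸ iy.1 u hu : y * u * y⁻¹ ∈ P.map (MulAut.conj a).toMonoidHom)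
      simp only [MulEquiv.coe_toMonoidHom, MulAut.conj_apply] at hwe
      have e : a⁻¹ * y * u * (a⁻¹ * y)⁻¹ = a⁻¹ * (y * u * y⁻¹) * a := by group
      have e2 : a⁻¹ * (a * w * a⁻¹) * a = w := by group
      rw [e, ← hwe, e2]
      exact hw
  obtain ⟨x₀, hx₀⟩ : A.Nonempty := by
    by_contra hno
    exact h.not_cent fun x hx => absurd ⟨x, hx⟩ hno
  obtain ⟨hzP, hkill⟩ := hzS
  -- the homomorphisms to test
  let cj : G → P → P := fun x u => if hx : x * u * x⁻¹ ∈ P then ⟨x * u * x⁻¹, hx⟩ else 1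
  have hcjval : ∀ x ∈ X, ∀ u : P, (cj x u : G) = x * u * x⁻¹ := fun x hx u => by
    show ((dite _ _ _ : P) : G) = _
    rw [dif_pos ((hXP x hx).1 u u.2)]
  haveI : Fintype X := Fintype.ofFinite _
  let χ0 : P →* P ⧸ Vp := MonoidHom.mk' (fun u => ∏ x : X, ((cj x u : P) : P ⧸ Vp)) fun u w => by
    rw [← Finset.prod_mul_distrib]
    refine Finset.prod_congr rfl fun x _ => ?_
    rw [← QuotientGroup.mk_mul]
    refine congrArg _ (Subtype.ext ?_)
    rw [Subgroup.coe_mul, hcjval _ x.2, hcjval _ x.2, hcjval _ x.2, Subgroup.coe_mul]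
    group
  have hχ0V : Vp ≤ χ0.ker := by
    intro v hv
    rw [MonoidHom.mem_ker]
    refine Finset.prod_eq_one fun x _ => (QuotientGroup.eq_one_iff _).2 ?_
    rw [Subgroup.mem_subgroupOf] at hv ⊢
    rw [hcjval _ x.2]
    have hxc : (x : G) ∈ centralizer (V : Set G) := (closure_le _).2 hA x.2
    rw [← mem_centralizer_iff.1 hxc v hv, mul_inv_cancel_right]
    exact hv
  let χ := QuotientGroup.lift Vp χ0 hχ0V
  have h1 := hkill χ fun x hx w hw => by
    show χ0 _ = χ0 _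
    refine Fintype.prod_equiv (Equiv.mulRight (⟨x, subset_closure hx⟩ : X)) _ _ fun y => ?_
    refine congrArg _ (Subtype.ext ?_)
    rw [hcjval _ y.2, hcjval _ ((Equiv.mulRight (⟨x, subset_closure hx⟩ : X)) y).2]
    show (y : G) * (x * w * x⁻¹) * (y : G)⁻¹ = ((y : G) * x) * w * ((y : G) * x)⁻¹
    group
  change χ0 z = 1 at h1
  have h2 : χ0 z = ((z : P) : P ⧸ Vp) ^ Nat.card X := by
    show ∏ x : X, ((cj x z : P) : P ⧸ Vp) = _
    rw [Finset.prod_congr rfl (g := fun _ => ((z : P) : P ⧸ Vp)) fun x _ => ?_, Finset.prod_const, Finset.card_univ,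
      Nat.card_eq_fintype_card]
    refine congrArg _ (Subtype.ext ?_)
    rw [hcjval _ x.2, ((hXP x x.2).2).eq, mul_inv_cancel_right]
  have hodd : (Nat.card X).Coprime 2 → (z : G) ∈ V := fun hco => by
    have hz2 : ((z : P) : P ⧸ Vp) ^ 2 = 1 := by
      rw [← QuotientGroup.mk_pow, QuotientGroup.eq_one_iff, Subgroup.mem_subgroupOf]
      rw [Subgroup.coe_pow, sq]
      exact hsqV z z.2
    have h3 : ((z : P) : P ⧸ Vp) = 1 := orderOf_eq_one_iff.1 (Nat.eq_one_of_dvd_coprimes hco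
      (orderOf_dvd_of_pow_eq_one (h2.symm.trans h1)) (orderOf_dvd_of_pow_eq_one hz2))
    exact Subgroup.mem_subgroupOf.1 ((QuotientGroup.eq_one_iff _).1 h3)
  exact hodd hAodd

end Cfsg.Lib.OneClass
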