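import Mathlib
import Cfsg.Agent.Elementary.RelIndexProduct
import Cfsg.Agent.OneClass.Action

/-!
A fixed-point-free element of large prime power order on the group of involutions centralises every odd
subgroup which centralises the involutions and is normalised by it.
-/

set_option autoImplicit false
set_option linter.style.haveILetI false
set_option linter.unusedSectionVars false

namespace Cfsg.Lib.OneClass

open Module Subgroup Cfsg.Lib.SolvableTransitive Cfsg.Lib.Components
open scoped commutatorElement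

universe u

variable {G : Type u} [Group G] [Finite G] {V : Subgroup G}

theorem mem_normalizer_of_inv {I : Set G} {P : Subgroup G} (h : Inv I P) {g : G} (hg : g ∈ I) :
    g ∈ normalizer (P : Set G) := by
  rw [mem_normalizer_iff]
  intro u
  refine ⟨fun hu => h g hg u hu, fun hu => ?_⟩
  have hm : P.map (MulAut.conj g).toMonoidHom = P := Subgroup.eq_of_le_of_card_ge
    (by rintro _ ⟨y, hy, rfl⟩; exact h g hg y hy)
    (le_of_eq (Nat.card_congr (P.equivMapOfInjective _ (MulAut.conj g).injective).toEquiv))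
  obtain ⟨w, hw, hwe⟩ := (hm.symm ▸ hu : g * u * g⁻¹ ∈ P.map (MulAut.conj g).toMonoidHom)
  simp only [MulEquiv.coe_toMonoidHom, MulAut.conj_apply, mul_left_inj, mul_right_inj] at hwe
  exact hwe ▸ hw

set_option maxHeartbeats 800000 in
/-- The linear representation on a minimal invariant 2-subgroup. -/
theorem exists_module (hV : ∀ x, x ∈ V ↔ x * x = 1) [V.Normal]
    (hcentral : ∀ v ∈ V, ∀ u ∈ pCore 2 G, u * v = v * u)
    (hCQ : centralizer (pCore 2 G : Set G) ≤ pCore 2 G) {N : ℕ} (hN : Nat.card V = 2 ^ N) {a : G}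
    (hfix : ∀ v ∈ V, a * v * a⁻¹ = v → v = 1) {I : Set G} {A : Subgroup G} (haI : a ∈ I) (hsub : (A : Set G) ⊆ I)
    (hconj : ∀ g ∈ I, ∀ x ∈ A, g⁻¹ * x * g ∈ A) (hA : Odd (Nat.card A)) (hA1 : A ≠ ⊥)
    (hAC : A ≤ centralizer (V : Set G)) :
    ∃ (P : Subgroup G), MinData 2 I (A : Set G) P ∧
      ∃ (W : Type u) (_ : AddCommGroup W) (_ : Module (ZMod 2) W) (_ : Finite W) (_ : Nontrivial W)
        (τ : normalizer (P : Set G) →* Module.End (ZMod 2) W),
        finrank (ZMod 2) W ≤ 2 * N ∧
        (∀ g : normalizer (P : Set G), (g : G) = a → ∀ w, τ g w = w → w = 0) ∧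
        Irr (τ '' {g : normalizer (P : Set G) | (g : G) ∈ I}) ∧
        (∀ g : normalizer (P : Set G), (g : G) ∈ A → τ g = 1 → ∀ u ∈ P, Commute (g : G) u) := by
  classical
  haveI : Fact (Nat.Prime 2) := ⟨Nat.prime_two⟩
  obtain ⟨x₁, hx₁, hx₁1⟩ := (Subgroup.bot_or_exists_ne_one A).resolve_left hA1
  have hco : ∀ x ∈ (A : Set G), (orderOf x).Coprime 2 := fun x hx =>
    (Nat.coprime_two_right.2 hA).coprime_dvd_left (A.orderOf_dvd_natCard hx)
  have hne : ¬ Cent (A : Set G) (pCore 2 G) := fun h => hx₁1 (by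
    have hmem : x₁ ∈ pCore 2 G := hCQ (mem_centralizer_iff.2 fun u hu => (h x₁ hx₁ u hu).eq.symm)
    obtain ⟨k, hk⟩ := isPGroup_pCore (G := G) 2 ⟨x₁, hmem⟩
    exact orderOf_eq_one_iff.1 (Nat.eq_one_of_dvd_coprimes ((hco x₁ hx₁).pow_right k) dvd_rfl
      (orderOf_dvd_of_pow_eq_one (congrArg Subtype.val hk : x₁ ^ 2 ^ k = 1))))
  obtain ⟨P, hPQ, hP⟩ := minData_exists (G := G) (s := 2) Nat.prime_two (I := I) (A := (A : Set G))
    (isPGroup_pCore 2) (fun g _ u hu => (inferInstance : (pCore 2 G).Normal).conj_mem u hu g) hsub hconj hco hne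
  have hVinv : Inv I V := fun g _ u hu => (inferInstance : V.Normal).conj_mem u hu g
  obtain ⟨hsq, hZ, hcl⟩ := hP.two_structure hV (fun x hx => hAC hx) hVinv
    (fun v hv u hu => hcentral v hv u (hPQ hu)) (by rw [closure_eq]; exact Nat.coprime_two_right.2 hA)
  refine ⟨P, hP, ?_⟩
  letI : CommGroup (P ⧸ center P) :=
    { (inferInstance : Group (P ⧸ center P)) with
      mul_comm := fun u w => by
        induction u using QuotientGroup.induction_on with
        | H a =>
          induction w using QuotientGroup.induction_on with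
          | H b =>
            rw [← QuotientGroup.mk_mul, ← QuotientGroup.mk_mul, QuotientGroup.eq]
            have := hcl b⁻¹ a⁻¹
            simpa [mul_assoc] using this }
  have hexp : ∀ w : Additive (P ⧸ center P), 2 • w = 0 := fun w => by
    induction w using Additive.rec with
    | ofMul w =>
      induction w using QuotientGroup.induction_on with
      | H u =>
        rw [← ofMul_pow, ofMul_eq_zero, ← QuotientGroup.mk_pow, QuotientGroup.eq_one_iff, hZ, Subgroup.coe_pow, sq]
        exact hsq u u.2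
  letI : Module (ZMod 2) (Additive (P ⧸ center P)) := AddCommGroup.zmodModule hexp
  let cj : normalizer (P : Set G) → P →* P := fun g =>
    MonoidHom.mk' (fun u => ⟨(g : G) * u * (g : G)⁻¹, (mem_normalizer_iff.1 g.2 u).1 u.2⟩)
      fun u w => Subtype.ext (by simp only [Subgroup.coe_mul]; group)
  have hcz : ∀ g, center P ≤ (center P).comap (cj g) := fun g z hz => (hZ _).2
    ((inferInstance : V.Normal).conj_mem _ ((hZ z).1 hz) (g : G))
  let lin : normalizer (P : Set G) → Module.End (ZMod 2) (Additive (P ⧸ center P)) := fun g =>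
    (MonoidHom.toAdditive (QuotientGroup.map (center P) (center P) (cj g) (hcz g))).toZModLinearMap 2
  have hlin : ∀ g (u : P), lin g (Additive.ofMul (u : P ⧸ center P)) = Additive.ofMul ((cj g u : P) : P ⧸ center P) :=
    fun g u => rfl
  let τ : normalizer (P : Set G) →* Module.End (ZMod 2) (Additive (P ⧸ center P)) :=
    { toFun := lin
      map_one' := LinearMap.ext fun w => by
        induction w using Additive.rec with
        | ofMul w =>
          induction w using QuotientGroup.induction_on with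
          | H u => rw [hlin]; exact congrArg (fun t : P => Additive.ofMul (t : P ⧸ center P)) (Subtype.ext (by simp [cj]))
      map_mul' := fun g h => LinearMap.ext fun w => by
        induction w using Additive.rec with
        | ofMul w =>
          induction w using QuotientGroup.induction_on with
          | H u =>
            rw [Module.End.mul_apply, hlin, hlin, hlin]
            exact congrArg (fun t : P => Additive.ofMul (t : P ⧸ center P)) (Subtype.ext (by simp [cj, mul_assoc])) }
  have hnt : Nontrivial (Additive (P ⧸ center P)) := by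
    rcases subsingleton_or_nontrivial (P ⧸ center P) with h | h
    · refine absurd (fun x hx u hu => ?_) hP.not_cent
      exact (mem_centralizer_iff.1 (hAC hx) u ((hZ ⟨u, hu⟩).1
        ((QuotientGroup.eq_one_iff _).1 (Subsingleton.elim _ _)))).symm
    · exact Additive.ofMul.injective.nontrivial
  haveI : Finite (Additive (P ⧸ center P)) := Finite.of_equiv _ Additive.ofMul
  have hw0 : ∀ u : P, Additive.ofMul (u : P ⧸ center P) = 0 ↔ (u : G) ∈ V := fun u => by
    rw [ofMul_eq_zero, QuotientGroup.eq_one_iff, hZ]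
  have hsame : ∀ g (u : P), τ g (Additive.ofMul (u : P ⧸ center P)) = Additive.ofMul (u : P ⧸ center P) →
      (u : G)⁻¹ * ((g : G) * u * (g : G)⁻¹) ∈ V := fun g u h => by
    have h' : ((cj g u : P) : P ⧸ center P) = (u : P ⧸ center P) := Additive.ofMul.injective h
    exact (hZ _).1 (QuotientGroup.eq.1 h'.symm)
  refine ⟨Additive (P ⧸ center P), inferInstance, inferInstance, inferInstance, hnt, τ, ?_, ?_, ?_, ?_⟩
  · -- the squaring map
    letI : CommGroup V :=
      { (inferInstance : Group V) with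
        mul_comm := fun v w => Subtype.ext (by
          have h1 : ((v : G) * w) * ((v : G) * w) = 1 := (hV _).1 (V.mul_mem v.2 w.2)
          have h2 : (v : G)⁻¹ = v := inv_eq_of_mul_eq_one_right ((hV _).1 v.2)
          have h3 : (w : G)⁻¹ = w := inv_eq_of_mul_eq_one_right ((hV _).1 w.2)
          show (v : G) * w = w * v
          have h4 := inv_eq_of_mul_eq_one_right h1
          rw [mul_inv_rev, h2, h3] at h4
          exact h4.symm) }
    have hexpV : ∀ v : Additive V, 2 • v = 0 := fun v => by
      induction v using Additive.rec with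
      | ofMul v =>
        rw [← ofMul_pow, ofMul_eq_zero]
        exact Subtype.ext (by rw [Subgroup.coe_pow, sq]; exact (hV _).1 v.2)
    letI : Module (ZMod 2) (Additive V) := AddCommGroup.zmodModule hexpV
    have hVdim : finrank (ZMod 2) (Additive V) = N := by
      have h := Module.natCard_eq_pow_finrank (K := ZMod 2) (V := Additive V)
      rw [Nat.card_congr Additive.toMul, hN, Nat.card_zmod] at h
      exact (Nat.pow_right_injective (le_refl 2) h).symm
    rw [← hVdim]
    let q0 : P → Additive V := fun u => Additive.ofMul ⟨(u : G) * u, hsq u u.2⟩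
    have hcv : ∀ v ∈ V, ∀ u : P, (u : G) * v = v * u := fun v hv u => hcentral v hv u (hPQ u.2)
    have hq0 : ∀ u z : P, z ∈ center P → q0 (u * z) = q0 u := fun u z hz => congrArg Additive.ofMul (Subtype.ext (by
      show ((u : G) * z) * ((u : G) * z) = u * u
      calc ((u : G) * z) * ((u : G) * z) = (u : G) * ((z : G) * u) * z := by group
        _ = (u : G) * ((u : G) * z) * z := by rw [hcv _ ((hZ z).1 hz) u]
        _ = (u : G) * u * ((z : G) * z) := by group
        _ = u * u := by rw [(hV _).1 ((hZ z).1 hz), mul_one]))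
    let q : Additive (P ⧸ center P) → Additive V := fun w => Quotient.liftOn' w.toMul q0 fun u v huv => by
      rw [QuotientGroup.leftRel_apply] at huv
      rw [← hq0 u (u⁻¹ * v) huv, mul_inv_cancel_left]
    let b0 : P → P → Additive V := fun u w => Additive.ofMul
      ⟨((w * u * w⁻¹ * u⁻¹ : P) : G), (hZ _).1 (hcl w u)⟩
    have hb0l : ∀ u u' w : P, b0 (u * u') w = b0 u w + b0 u' w := fun u u' w => congrArg Additive.ofMul (Subtype.ext (by
      show ((w * (u * u') * w⁻¹ * (u * u')⁻¹ : P) : G) =
        ((w * u * w⁻¹ * u⁻¹ : P) : G) * ((w * u' * w⁻¹ * u'⁻¹ : P) : G)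
      rw [← Subgroup.coe_mul]
      refine congrArg Subtype.val ?_
      calc w * (u * u') * w⁻¹ * (u * u')⁻¹ = (w * u * w⁻¹) * (w * u' * w⁻¹ * u'⁻¹) * u⁻¹ := by group
        _ = w * u * w⁻¹ * u⁻¹ * (u * (w * u' * w⁻¹ * u'⁻¹)) * u⁻¹ := by group
        _ = _ := by rw [mem_center_iff.1 (hcl w u') u]; group))
    have hb0 : ∀ u w z : P, z ∈ center P → b0 (u * z) w = b0 u w ∧ b0 u (w * z) = b0 u w := fun u w z hz => by
      have hz' : ∀ y : P, y * z = z * y := fun y => mem_center_iff.1 hz y
      have key : ∀ a b c d : P, a * b * a⁻¹ * b⁻¹ = c * d * c⁻¹ * d⁻¹ → b0 b a = b0 d c := fun a b c d h =>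
        congrArg Additive.ofMul (Subtype.ext (congrArg (Subgroup.subtype P) h))
      refine ⟨key _ _ _ _ ?_, key _ _ _ _ ?_⟩
      · calc w * (u * z) * w⁻¹ * (u * z)⁻¹ = w * u * (z * w⁻¹) * z⁻¹ * u⁻¹ := by group
          _ = w * u * w⁻¹ * u⁻¹ := by rw [← hz' w⁻¹]; group
      · calc w * z * u * (w * z)⁻¹ * u⁻¹ = w * (z * u) * z⁻¹ * w⁻¹ * u⁻¹ := by group
          _ = w * u * w⁻¹ * u⁻¹ := by rw [← hz' u]; group
    let bb : Additive (P ⧸ center P) → Additive (P ⧸ center P) → Additive V := fun u w =>
      Quotient.liftOn₂' u.toMul w.toMul b0 fun u w u' w' hu hw => by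
        rw [QuotientGroup.leftRel_apply] at hu hw
        rw [← (hb0 u w _ hu).1, mul_inv_cancel_left, ← (hb0 u' w _ hw).2, mul_inv_cancel_left]
    have hsym : ∀ u w : P, b0 u w = b0 w u := fun u w => congrArg Additive.ofMul (Subtype.ext (by
      show ((w * u * w⁻¹ * u⁻¹ : P) : G) = ((u * w * u⁻¹ * w⁻¹ : P) : G)
      have hinv : (w * u * w⁻¹ * u⁻¹)⁻¹ = u * w * u⁻¹ * w⁻¹ := by group
      rw [← hinv, Subgroup.coe_inv]
      exact (inv_eq_of_mul_eq_one_right ((hV _).1 ((hZ _).1 (hcl w u)))).symm))
    refine finrank_le_of_anisotropic q bb (fun u v w => ?_) (fun u w => ?_) fun w => ?_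
    · induction u using Additive.rec with
      | ofMul u =>
      induction v using Additive.rec with
      | ofMul v =>
      induction w using Additive.rec with
      | ofMul w =>
      induction u using QuotientGroup.induction_on with
      | H u =>
      induction v using QuotientGroup.induction_on with
      | H v =>
      induction w using QuotientGroup.induction_on with
      | H w =>
        show b0 u (v * w) = b0 u v + b0 u w
        rw [hsym u, hb0l, hsym v, hsym w]
    · induction u using Additive.rec with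
      | ofMul u =>
      induction w using Additive.rec with
      | ofMul w =>
      induction u using QuotientGroup.induction_on with
      | H u =>
      induction w using QuotientGroup.induction_on with
      | H w =>
        show q0 (u * w) = q0 u + q0 w + b0 u w
        refine congrArg Additive.ofMul (Subtype.ext ?_)
        show ((u * w : P) : G) * ((u * w : P) : G) =
          (u : G) * u * ((w : G) * w) * ((w * u * w⁻¹ * u⁻¹ : P) : G)
        set c := ((w * u * w⁻¹ * u⁻¹ : P) : G) with hc
        have hcV : c ∈ V := (hZ _).1 (hcl w u)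
        have hwu : (w : G) * u = c * ((u : G) * w) := by rw [hc]; push_cast; group
        have h2 : (u : G) * u * ((w : G) * w) * c = c * ((u : G) * u * ((w : G) * w)) := by
          have := hcv c hcV (u * u * (w * w))
          push_cast at this
          exact this
        rw [h2]
        push_cast
        calc (u : G) * w * ((u : G) * w) = (u : G) * ((w : G) * u) * w := by group
          _ = (u : G) * c * ((u : G) * w) * w := by rw [hwu]; group
          _ = c * u * ((u : G) * w) * w := by rw [hcv c hcV u]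
          _ = _ := by group
    · induction w using Additive.rec with
      | ofMul w =>
      induction w using QuotientGroup.induction_on with
      | H u =>
        show q0 u = 0 ↔ _
        rw [hw0, hV, ofMul_eq_zero]
        exact ⟨fun h => congrArg Subtype.val h, fun h => Subtype.ext h⟩
  · intro g hg w hw
    induction w using Additive.rec with
    | ofMul w =>
    induction w using QuotientGroup.induction_on with
    | H u =>
      have hd := hsame g u hw
      rw [hg] at hd
      set z := (u : G)⁻¹ * (a * u * a⁻¹) with hz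
      have h1 : a * ((u : G) * u) * a⁻¹ = u * u := by
        calc a * ((u : G) * u) * a⁻¹ = (u * z) * (u * z) := by rw [hz]; group
          _ = (u : G) * (z * u) * z := by group
          _ = (u : G) * ((u : G) * z) * z := by rw [hcentral z hd u (hPQ u.2)]
          _ = (u : G) * u * (z * z) := by group
          _ = u * u := by rw [(hV z).1 hd, mul_one]
      have h2 : (u : G) ∈ V := (hV _).2 (hfix _ (hsq u u.2) h1)
      exact (hw0 u).2 h2
  · intro W' hW'
    by_cases h0 : W' = ⊥
    · exact Or.inl h0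
    refine Or.inr ?_
    let S : Subgroup G :=
      { carrier := {u | ∃ hu : u ∈ P, Additive.ofMul ((⟨u, hu⟩ : P) : P ⧸ center P) ∈ W'}
        one_mem' := ⟨P.one_mem, W'.zero_mem⟩
        mul_mem' := fun {c d} hc hd => ⟨P.mul_mem hc.1 hd.1, W'.add_mem hc.2 hd.2⟩
        inv_mem' := fun {c} hc => ⟨P.inv_mem hc.1, W'.neg_mem hc.2⟩ }
    have hSinv : Inv I S := fun g hg u hu => ⟨hP.inv g hg u hu.1, hW' _
      ⟨⟨g, mem_normalizer_of_inv hP.inv hg⟩, hg, rfl⟩ _ hu.2⟩
    by_cases hS : S = P
    · refine eq_top_iff.2 fun w _ => ?_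
      induction w using Additive.rec with
      | ofMul w =>
      induction w using QuotientGroup.induction_on with
      | H u => exact (hS.symm ▸ u.2 : (u : G) ∈ S).2
    · exfalso
      have hc := hP.min S (fun u hu => hu.1) hSinv hS
      refine h0 ((Submodule.eq_bot_iff _).2 fun w hw => ?_)
      induction w using Additive.rec with
      | ofMul w =>
      induction w using QuotientGroup.induction_on with
      | H u =>
        refine (hw0 u).2 ((hZ u).1 (mem_center_iff.2 fun y => Subtype.ext ?_))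
        exact (hP.fixed_central u.2 (fun x hx => hc x hx u ⟨u.2, hw⟩) y.2).symm
  · intro g hgA hg u hu
    have hd := hsame g ⟨u, hu⟩ (by rw [hg]; rfl)
    refine twist (hco _ hgA) hP.pgroup hu ((mem_normalizer_iff.1 g.2 u).1 hu) ?_
    exact (mem_centralizer_iff.1 (hAC hgA) _ hd).symm

set_option maxHeartbeats 800000 in
theorem centralises (hV : ∀ x, x ∈ V ↔ x * x = 1) [V.Normal]
    (hcentral : ∀ v ∈ V, ∀ u ∈ pCore 2 G, u * v = v * u)
    (hCQ : centralizer (pCore 2 G : Set G) ≤ pCore 2 G) {N : ℕ} (hN : Nat.card V = 2 ^ N) {p k : ℕ}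
    [Fact p.Prime] (hNp : N < p) (hp2 : p ≠ 2) {a : G} (ha : a ^ p ^ k = 1)
    (hfix : ∀ v ∈ V, a * v * a⁻¹ = v → v = 1) {r : ℕ} [Fact r.Prime] (hr2 : r ≠ 2) {X : Subgroup G}
    (hXr : IsPGroup r X) (hXC : X ≤ centralizer (V : Set G)) (haX : ∀ x ∈ X, a * x * a⁻¹ ∈ X) :
    ∀ x ∈ X, Commute a x := by
  classical
  by_contra hcon
  by_cases hrp : r = p
  · subst hrp
    -- the p-group U
    have hpc : IsPGroup r (zpowers a) := by
      obtain ⟨i, -, hi⟩ := (Nat.dvd_prime_pow (Fact.out : r.Prime)).1 (orderOf_dvd_of_pow_eq_one ha)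
      exact IsPGroup.iff_card.2 ⟨i, by rw [Nat.card_zpowers, hi]⟩
    have hnorm : zpowers a ≤ normalizer (X : Set G) := zpowers_le.2
      (mem_normalizer_of_inv (I := {a}) (fun g hg u hu => by rw [Set.mem_singleton_iff.1 hg]; exact haX u hu) rfl)
    set U := X ⊔ zpowers a
    have hU : IsPGroup r U := hXr.to_sup_of_normal_left' hpc hnorm
    set A := ⁅U, U⁆
    have hAX : A ≤ X := commutator_le.2 fun u hu w hw => by
      obtain ⟨x, hx, α, hα, rfl⟩ := Cfsg.Lib.RelIndexProduct.exists_mul_of_mem_sup hnorm hu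
      obtain ⟨y, hy, β, hβ, rfl⟩ := Cfsg.Lib.RelIndexProduct.exists_mul_of_mem_sup hnorm hw
      have hc : α * β = β * α := by
        obtain ⟨i, rfl⟩ := hα; obtain ⟨j, rfl⟩ := hβ
        exact (Commute.zpow_zpow (Commute.refl a) i j).eq
      have hc' : α * β * α⁻¹ = β := by rw [hc, mul_inv_cancel_right]
      have e : ⁅x * α, y * β⁆ = x * (α * y * α⁻¹) * ((α * β * α⁻¹) * x⁻¹ * β⁻¹) * y⁻¹ := by
        rw [commutatorElement_def]; group
      rw [e, hc']
      exact X.mul_mem (X.mul_mem (X.mul_mem hx ((mem_normalizer_iff.1 (hnorm hα) y).1 hy))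
        ((mem_normalizer_iff.1 (hnorm hβ) x⁻¹).1 (X.inv_mem hx))) (X.inv_mem hy)
    have haU : a ∈ U := mem_sup_right (mem_zpowers a)
    have hA1 : A ≠ ⊥ := fun h => hcon fun x hx => by
      have h' := commutator_mem_commutator haU (mem_sup_left hx : x ∈ U)
      rw [show ⁅U, U⁆ = ⊥ from h, mem_bot] at h'
      exact commutatorElement_eq_one_iff_commute.1 h'
    have hodd : Odd (Nat.card A) := by
      obtain ⟨i, hi⟩ := IsPGroup.iff_card.1 (hXr.to_le hAX)
      rw [hi]
      exact ((Fact.out : r.Prime).odd_of_ne_two hr2).pow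
    have hconj : ∀ g ∈ (U : Set G), ∀ x ∈ A, g⁻¹ * x * g ∈ A := by
      intro g hg x hx
      have hm : U.map (MulAut.conj g⁻¹).toMonoidHom ≤ U := by
        rintro _ ⟨y, hy, rfl⟩
        exact U.mul_mem (U.mul_mem (U.inv_mem hg) hy) (U.inv_mem (U.inv_mem hg))
      have h' : g⁻¹ * x * g⁻¹⁻¹ ∈ A.map (MulAut.conj g⁻¹).toMonoidHom := ⟨x, hx, rfl⟩
      rw [map_commutator, inv_inv] at h'
      exact commutator_mono hm hm h'
    obtain ⟨P, hP, W, iW, iM, iF, iN, τ, hdim, hfa, hirr, hker⟩ :=
      exists_module hV hcentral hCQ hN hfix (I := (U : Set G)) (A := A) haU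
        (hAX.trans le_sup_left) hconj hodd hA1 (hAX.trans hXC)
    have hUn : U ≤ normalizer (P : Set G) := fun g hg => mem_normalizer_of_inv hP.inv hg
    set ι := Subgroup.inclusion hUn
    set σ := τ.comp ι
    let Γ := σ.toHomUnits.range
    let ν : Γ →* Module.End (ZMod 2) W := (Units.coeHom _).comp Γ.subtype
    have hν : Function.Injective ν := fun u w h => Subtype.ext (Units.ext h)
    haveI : Finite (Module.End (ZMod 2) W) := finite_end
    let a' : Γ := σ.toHomUnits.rangeRestrict ⟨a, haU⟩
    have ha' : a' ^ r ^ k = 1 := by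
      rw [← map_pow, show (⟨a, haU⟩ : U) ^ r ^ k = 1 from Subtype.ext ha, map_one]
    have hfa' : ∀ v, ν a' v = v → v = 0 := hfa (ι ⟨a, haU⟩) rfl
    have hirr' : Irr (Set.range ν) := fun W' hW' => hirr W' (by
      rintro _ ⟨g, hg, rfl⟩ v hv
      exact hW' _ ⟨σ.toHomUnits.rangeRestrict ⟨g, hg⟩, rfl⟩ v hv)
    have hΓp : IsPGroup r Γ := hU.of_surjective σ.toHomUnits.rangeRestrict σ.toHomUnits.rangeRestrict_surjective
    have hna : ∃ u w : Γ, u * w ≠ w * u := by
      by_contra! hab
      refine hP.not_cent fun x hx u hu => hker ⟨x, hUn (mem_sup_left (hAX hx))⟩ hx ?_ u hu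
      have key : ∀ y ∈ A, ∀ hyU : y ∈ U, σ ⟨y, hyU⟩ = 1 := by
        have hle : A ≤ (σ.toHomUnits.ker).map U.subtype := commutator_le.2 fun u hu w hw => by
          refine ⟨⁅(⟨u, hu⟩ : U), ⟨w, hw⟩⁆, ?_, rfl⟩
          rw [SetLike.mem_coe, MonoidHom.mem_ker, map_commutatorElement, commutatorElement_eq_one_iff_commute]
          exact congrArg Subtype.val (hab (σ.toHomUnits.rangeRestrict ⟨u, hu⟩) (σ.toHomUnits.rangeRestrict ⟨w, hw⟩))
        intro y hy hyU
        obtain ⟨z, hz, hzy⟩ := hle hy
        rw [show (⟨y, hyU⟩ : U) = z from Subtype.ext hzy.symm]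
        exact congrArg Units.val hz
      exact key x hx (mem_sup_left (hAX hx))
    obtain ⟨u₀, w₀, huw⟩ := hna
    haveI : Group.IsNilpotent Γ := hΓp.isNilpotent
    -- a commutator of order prime in the centre
    haveI : Nontrivial (Γ ⧸ center Γ) := by
      rcases subsingleton_or_nontrivial (Γ ⧸ center Γ) with h | h
      · exact absurd (mem_center_iff.1 ((QuotientGroup.eq_one_iff _).1 (Subsingleton.elim (w₀ : Γ ⧸ center Γ) 1)) u₀) huw
      · exact h
    haveI := (hΓp.to_quotient (center Γ)).center_nontrivial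
    obtain ⟨⟨ū, hū⟩, hū1⟩ := exists_ne (1 : center (Γ ⧸ center Γ))
    obtain ⟨u, rfl⟩ := QuotientGroup.mk_surjective ū
    have huZ : u ∉ center Γ := fun h => hū1 (Subtype.ext ((QuotientGroup.eq_one_iff u).2 h))
    obtain ⟨w, hw⟩ : ∃ w, w * u ≠ u * w := by
      by_contra! h
      exact huZ (mem_center_iff.2 h)
    have hcen : w * u * w⁻¹ * u⁻¹ ∈ center Γ := by
      rw [← QuotientGroup.eq_one_iff]
      simp only [QuotientGroup.mk_mul, QuotientGroup.mk_inv]
      rw [mem_center_iff.1 hū w, mul_inv_cancel_right, mul_inv_cancel]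
    set z := w * u * w⁻¹ * u⁻¹
    have hz1 : z ≠ 1 := fun h => hw (by rw [mul_inv_eq_one, mul_inv_eq_iff_eq_mul] at h; exact h)
    have hzfix : ∀ v, ν z v = v → v = 0 := by
      have hne : ν z - 1 ≠ 0 := fun h => hz1 (hν (by rw [map_one]; exact sub_eq_zero.1 h))
      have hi := inj_of_commute hirr' hne (by
        rintro _ ⟨y, rfl⟩
        exact ((show Commute z y from (mem_center_iff.1 hcen y).symm).map ν).sub_left (Commute.one_left _))
      intro v hv
      refine hi ?_
      rw [map_zero, LinearMap.sub_apply, Module.End.one_apply, hv, sub_self]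
    have hcz : ∀ c ∈ center Γ, ∀ y : Γ, y * c = c * y := fun c hc => mem_center_iff.1 hc
    let B : Subgroup Γ :=
      { carrier := {y | ∃ i : ℤ, ∃ c ∈ center Γ, y = u ^ i * c}
        one_mem' := ⟨0, 1, one_mem _, by rw [zpow_zero, one_mul]⟩
        mul_mem' := by
          rintro _ _ ⟨i, c, hc, rfl⟩ ⟨j, d, hd, rfl⟩
          refine ⟨i + j, c * d, mul_mem hc hd, ?_⟩
          rw [zpow_add]
          simp only [mul_assoc]
          rw [← mul_assoc c (u ^ j) d, ← hcz c hc (u ^ j), mul_assoc (u ^ j) c d]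
        inv_mem' := by
          rintro _ ⟨i, c, hc, rfl⟩
          refine ⟨-i, c⁻¹, inv_mem hc, ?_⟩
          rw [mul_inv_rev, zpow_neg, hcz _ (inv_mem hc) (u ^ i)⁻¹] }
    have hmemB : ∀ {y : Γ}, y ∈ B ↔ ∃ i : ℤ, ∃ c ∈ center Γ, y = u ^ i * c := fun {y} => Iff.rfl
    have huB : u ∈ B := ⟨1, 1, one_mem _, by rw [zpow_one, mul_one]⟩
    have hBc : ∀ c ∈ B, ∀ d ∈ B, c * d = d * c := by
      rintro _ ⟨i, c, hc, rfl⟩ _ ⟨j, d, hd, rfl⟩
      have h1 : Commute (u ^ i * c) (u ^ j * d) :=
        ((Commute.zpow_zpow (Commute.refl u) i j).mul_right (hcz d hd _)).mul_left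
          (hcz c hc _).symm
      exact h1.eq
    have hgB : ∀ b ∈ B, w * b * w⁻¹ ∈ B := by
      rintro _ ⟨i, c, hc, rfl⟩
      have hzu : z * u = w * u * w⁻¹ := inv_mul_cancel_right _ _
      refine ⟨i, z ^ i * c, mul_mem (zpow_mem hcen i) hc, ?_⟩
      calc w * (u ^ i * c) * w⁻¹ = (w * u ^ i * w⁻¹) * (w * c * w⁻¹) := by
            simp only [mul_assoc, inv_mul_cancel_left]
        _ = (w * u * w⁻¹) ^ i * c := by rw [conj_zpow, hcz c hc w, mul_inv_cancel_right]
        _ = z ^ i * u ^ i * c := by rw [← hzu, (show Commute z u from (hcz z hcen u).symm).mul_zpow]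
        _ = u ^ i * (z ^ i * c) := by rw [← hcz _ (zpow_mem hcen i) (u ^ i), mul_assoc]
    obtain ⟨kw, hkw⟩ := hΓp w
    have hodd : Odd (Nat.card B) := by
      obtain ⟨i, hi⟩ := IsPGroup.iff_card.1 (hΓp.to_subgroup B)
      rw [hi]
      exact ((Fact.out : r.Prime).odd_of_ne_two hr2).pow
    have hd2 : finrank (ZMod 2) W < 2 * r := by omega
    exact hw (commute_of_abelian_two ν hkw hBc hodd (fun b _ hb => hν (hb.trans (map_one ν).symm)) hgB
      (fun v hv => hzfix v (hv u huB)) hd2
      (not_dvd_finrank ν hp2 ha' hfa' hd2) u huB).eq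
  · -- a minimal subgroup
    have hco : ∀ x ∈ ({a} : Set G), (orderOf x).Coprime r := fun x hx => by
      rw [Set.mem_singleton_iff.1 hx]
      exact (Nat.Coprime.pow_left k ((Nat.coprime_primes Fact.out Fact.out).2 (Ne.symm hrp))).coprime_dvd_left
        (orderOf_dvd_of_pow_eq_one ha)
    obtain ⟨Y, hYX, hY⟩ := minData_exists (G := G) (s := r) (Fact.out : r.Prime) (I := {a}) (A := {a}) hXr
      (fun g hg u hu => by rw [Set.mem_singleton_iff.1 hg]; exact haX u hu) subset_rfl
      (fun g hg x hx => by rw [Set.mem_singleton_iff.1 hg, Set.mem_singleton_iff.1 hx]; simp) hco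
      (fun h => hcon fun x hx => h a rfl x hx)
    have hY1 : Y ≠ ⊥ := fun h => hY.not_cent fun x _ u hu => by
      rw [h, mem_bot] at hu; rw [hu]; exact Commute.one_right x
    have hodd : Odd (Nat.card Y) := by
      obtain ⟨i, hi⟩ := IsPGroup.iff_card.1 hY.pgroup
      rw [hi]
      exact ((Fact.out : r.Prime).odd_of_ne_two hr2).pow
    have hanorm : a ∈ normalizer (Y : Set G) := mem_normalizer_of_inv hY.inv rfl
    obtain ⟨P, hP, W, iW, iM, iF, iN, τ, hdim, hfa, hirr, hker⟩ :=
      exists_module hV hcentral hCQ hN hfix (I := insert a (Y : Set G)) (A := Y) (Set.mem_insert _ _)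
        (Set.subset_insert _ _) (fun g hg x hx => by
          rcases hg with rfl | hg
          · exact (mem_normalizer_iff.1 ((normalizer (Y : Set G)).inv_mem hanorm) x).1 hx |> fun h => by simpa using h
          · exact Y.mul_mem (Y.mul_mem (Y.inv_mem hg) hx) hg) hodd hY1 (hYX.trans hXC)
    have hYn : Y ≤ normalizer (P : Set G) := fun g hg => mem_normalizer_of_inv hP.inv (Set.mem_insert_of_mem _ hg)
    have han : a ∈ normalizer (P : Set G) := mem_normalizer_of_inv hP.inv (Set.mem_insert _ _)
    -- the image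
    let Γ := τ.toHomUnits.range
    let ν : Γ →* Module.End (ZMod 2) W := (Units.coeHom _).comp Γ.subtype
    have hν : Function.Injective ν := fun u w h => Subtype.ext (Units.ext h)
    haveI : Finite (Module.End (ZMod 2) W) := finite_end
    let π := τ.toHomUnits.rangeRestrict
    let a' : Γ := π ⟨a, han⟩
    set R := (Y.subgroupOf (normalizer (P : Set G))).map π
    have hpre : ∀ {y : G} (hy : y ∈ Y), π ⟨y, hYn hy⟩ ∈ R := fun {y} hy => ⟨⟨y, hYn hy⟩, hy, rfl⟩
    -- the kernel is centralised
    have hK : ∀ y ∈ Y, ∀ hyn : y ∈ normalizer (P : Set G), π ⟨y, hyn⟩ = 1 → Commute a y := by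
      let K := Y ⊓ centralizer (P : Set G)
      intro y hy hyn h1
      have hyK : y ∈ K := ⟨hy, mem_centralizer_iff.2 fun u hu =>
        (hker ⟨y, hyn⟩ hy (congrArg (fun t : Γ => ((t : (Module.End (ZMod 2) W)ˣ) : Module.End (ZMod 2) W)) h1) u hu).symm⟩
      refine hY.min K inf_le_left (fun g hg u hu => ?_) (fun e => hP.not_cent fun x hx u hu => ?_) a rfl y hyK
      · rw [Set.mem_singleton_iff.1 hg]
        refine ⟨hY.inv a rfl u hu.1, mem_centralizer_iff.2 fun c hc => ?_⟩
        have hc' : a⁻¹ * c * a ∈ P := by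
          have := (mem_normalizer_iff.1 ((normalizer (P : Set G)).inv_mem han) c).1 hc
          simpa using this
        have h2 := mem_centralizer_iff.1 hu.2 _ hc'
        calc c * (a * u * a⁻¹) = a * ((a⁻¹ * c * a) * u) * a⁻¹ := by group
          _ = a * (u * (a⁻¹ * c * a)) * a⁻¹ := by rw [h2]
          _ = a * u * a⁻¹ * c := by group
      · have hx' : x ∈ K := e.symm ▸ hx
        exact (mem_centralizer_iff.1 hx'.2 u hu).symm
    have hRcent : ∀ {y : G} (hy : y ∈ Y), Commute a' (π ⟨y, hYn hy⟩) → Commute a y := by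
      intro y hy hc
      have hb := hY.inv a rfl y hy
      refine twist (hco a rfl) hY.pgroup hy hb (hK _ (Y.mul_mem (Y.inv_mem hy) hb)
        (hYn (Y.mul_mem (Y.inv_mem hy) hb)) ?_)
      rw [show (⟨y⁻¹ * (a * y * a⁻¹), hYn (Y.mul_mem (Y.inv_mem hy) hb)⟩ : normalizer (P : Set G)) =
        (⟨y, hYn hy⟩ : normalizer (P : Set G))⁻¹ * (⟨a, han⟩ * ⟨y, hYn hy⟩ * (⟨a, han⟩ : normalizer (P : Set G))⁻¹) from rfl,
        map_mul, map_inv, map_mul, map_mul, map_inv, show π ⟨a, han⟩ * π ⟨y, hYn hy⟩ = π ⟨y, hYn hy⟩ * π ⟨a, han⟩ from hc.eq,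
        mul_inv_cancel_right, inv_mul_cancel]
    have ha' : a' ^ p ^ k = 1 := by
      rw [← map_pow, show (⟨a, han⟩ : normalizer (P : Set G)) ^ p ^ k = 1 from Subtype.ext ha, map_one]
    have hfa' : ∀ v, ν a' v = v → v = 0 := hfa ⟨a, han⟩ rfl
    have hirr' : Irr (ν '' insert a' (R : Set Γ)) := fun W' hW' => hirr W' (by
      rintro _ ⟨g, hg, rfl⟩ v hv
      refine hW' _ ⟨π g, ?_, rfl⟩ v hv
      rcases hg with hg | hg
      · rw [show g = ⟨a, han⟩ from Subtype.ext hg]
        exact Set.mem_insert _ _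
      · exact Set.mem_insert_of_mem _ ⟨g, hg, rfl⟩)
    have hRr : IsPGroup r R := (hY.pgroup.of_equiv (subgroupOfEquivOfLe hYn).symm).map π
    have hRinv : Inv {a'} R := by
      rintro g rfl _ ⟨y, hy, rfl⟩
      exact ⟨⟨a, han⟩ * y * (⟨a, han⟩ : normalizer (P : Set G))⁻¹, hY.inv a rfl _ hy, by simp [a']⟩
    have hnc : ¬ Cent {a'} R := fun h => hY.not_cent fun x hx y hy => by
      rw [Set.mem_singleton_iff.1 hx]; exact hRcent hy (h a' rfl _ (hpre hy))
    have hdata : MinData r {a'} {a'} R :=
      ⟨Fact.out, hRr, hRinv, subset_rfl, fun g hg x hx => by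
          rw [Set.mem_singleton_iff.1 hg, Set.mem_singleton_iff.1 hx]; simp,
        fun x hx => by
          rw [Set.mem_singleton_iff.1 hx]
          exact (hco a rfl).coprime_dvd_left (orderOf_map_dvd π ⟨a, han⟩ |>.trans (dvd_of_eq (Subgroup.orderOf_mk a han))),
        hnc, fun T hT hTinv hTne => by
          let T' := Y ⊓ (T.comap π).map (normalizer (P : Set G)).subtype
          have hT' : Inv {a} T' := by
            rintro g rfl u ⟨hu, ⟨v, hv, rfl⟩⟩
            exact ⟨hY.inv _ rfl _ hu, ⟨⟨g, han⟩ * v * (⟨g, han⟩ : normalizer (P : Set G))⁻¹, by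
              show π _ ∈ T
              rw [map_mul, map_mul, map_inv]; exact hTinv a' rfl _ hv, rfl⟩⟩
          have hne : T' ≠ Y := fun e => hTne (le_antisymm hT (by
            rintro _ ⟨y, hy, rfl⟩
            obtain ⟨-, v, hv, hvy⟩ := (e.symm ▸ hy : (y : G) ∈ T')
            rw [show y = v from Subtype.ext hvy.symm]
            exact hv))
          intro x hx u hu
          rw [Set.mem_singleton_iff.1 hx]
          obtain ⟨y, hy, rfl⟩ := hT hu
          have := hY.min T' inf_le_left hT' hne a rfl y ⟨hy, ⟨y, hu, rfl⟩⟩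
          exact Commute.map (show Commute (⟨a, han⟩ : normalizer (P : Set G)) y from Subtype.ext this.eq) π⟩
    by_cases hab : ∀ u ∈ R, ∀ w ∈ R, u * w = w * u
    · obtain ⟨i, hi⟩ := IsPGroup.iff_card.1 hRr
      have hd2 : finrank (ZMod 2) W < 2 * p := by omega
      refine hnc fun x hx => ?_
      rw [Set.mem_singleton_iff.1 hx]
      refine commute_of_abelian_two ν ha' hab (by rw [hi]; exact ((Fact.out : r.Prime).odd_of_ne_two hr2).pow)
        (fun b _ hb => hν (hb.trans (map_one ν).symm)) (fun b hb => hRinv a' rfl b hb) ?_ hd2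
        (not_dvd_finrank ν hp2 ha' hfa' hd2)
      -- common fixed points of the commutators
      let W1 : Submodule (ZMod 2) W :=
        { carrier := {v | ∀ b ∈ R, ν (a' * b * a'⁻¹ * b⁻¹) v = v}
          zero_mem' := fun b _ => map_zero _
          add_mem' := fun {v v'} hv hv' b hb => by rw [map_add, hv b hb, hv' b hb]
          smul_mem' := fun c v hv b hb => by rw [map_smul, hv b hb] }
      have hW1 : W1 = ⊥ := by
        refine (hirr' W1 ?_).resolve_right fun htop => hnc fun x hx b hb => ?_
        · rintro _ ⟨g, hg, rfl⟩ v hv b hb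
          rcases hg with rfl | hg
          · have hb' : a'⁻¹ * b * a' ∈ R := by
              have := (mem_normalizer_iff.1 ((normalizer (R : Set Γ)).inv_mem
                (mem_normalizer_of_inv hRinv rfl)) b).1 hb
              simpa using this
            have e : a' * b * a'⁻¹ * b⁻¹ * a' = a' * (a' * (a'⁻¹ * b * a') * a'⁻¹ * (a'⁻¹ * b * a')⁻¹) := by group
            rw [← Module.End.mul_apply, ← map_mul, e, map_mul, Module.End.mul_apply, hv _ hb']
          · have hcR : a' * b * a'⁻¹ * b⁻¹ ∈ R := R.mul_mem (hRinv a' rfl b hb) (R.inv_mem hb)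
            rw [← Module.End.mul_apply, ← map_mul, hab _ hcR g hg, map_mul, Module.End.mul_apply, hv b hb]
        · rw [Set.mem_singleton_iff.1 hx]
          have h1 : ν (a' * b * a'⁻¹ * b⁻¹) = ν 1 := LinearMap.ext fun v => by
            rw [map_one]; exact (htop.symm ▸ Submodule.mem_top : v ∈ W1) b hb
          have h2 := hν h1
          rw [mul_inv_eq_one, mul_inv_eq_iff_eq_mul] at h2
          exact h2
      intro v hv
      exact (Submodule.mem_bot (ZMod 2)).1 (hW1 ▸ hv)
    · exact no_class_two ν hr2 hp2 ha' hdata hab (fun x _ hx => hν (hx.trans (map_one ν).symm)) hirr' hdim hNp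

end Cfsg.Lib.OneClass
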