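import Mathlib
import Cfsg.Agent.OneClass.Key
import Cfsg.Agent.HallHigman.Drop
import Cfsg.Agent.OddLocal.CommutatorPLength
import Cfsg.Agent.SuzukiTwo.Basic
import Cfsg.Agent.Components.Misc.Zsigmondy
import Cfsg.Agent.LinearPerm.SolvableTransitive.SixTwo

/-!
Solvable groups with one class of involutions have 2-length one.
-/

set_option autoImplicit false
set_option linter.style.haveILetI false
set_option linter.unusedSectionVars false

namespace Cfsg.Lib.OneClass

open Module Subgroup Cfsg.Lib.SolvableTransitive Cfsg.Lib.Components Cfsg.Lib.Coprime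
open scoped commutatorElement

universe u

variable {G : Type u} [Group G] [Finite G]

theorem coset_fixed {p k : ℕ} [Fact p.Prime] {a : G} (ha : a ^ p ^ k = 1) {T : Set G}
    (hT : ∀ u ∈ T, a * u * a⁻¹ ∈ T) (hco : ¬ p ∣ T.ncard) : ∃ u ∈ T, Commute a u := by
  classical
  let f : Equiv.Perm T := Equiv.ofBijective (fun u => ⟨a * u * a⁻¹, hT u u.2⟩)
    (Finite.injective_iff_bijective.1 fun u w h => Subtype.ext (by simpa using congrArg Subtype.val h))
  have hf : f ^ p ^ k = 1 := by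
    have : ∀ i (u : T), ((f ^ i) u : G) = a ^ i * u * (a ^ i)⁻¹ := by
      intro i
      induction i with
      | zero => intro u; simp
      | succ i ih =>
        intro u
        rw [pow_succ', Equiv.Perm.mul_apply]
        show a * ((f ^ i) u : G) * a⁻¹ = _
        rw [ih, pow_succ']; group
    refine Equiv.ext fun u => Subtype.ext ?_
    rw [this, ha]
    simp
  have h := card_fixed_modEq f hf
  obtain ⟨u, hu⟩ : ∃ u, f u = u := by
    by_contra! hno
    haveI : IsEmpty {u : T // f u = u} := ⟨fun u => hno u.1 u.2⟩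
    rw [show Nat.card {u : T // f u = u} = 0 from Nat.card_of_isEmpty, Nat.card_coe_set_eq] at h
    exact hco (Nat.modEq_zero_iff_dvd.1 h)
  have hu' : a * (u : G) * a⁻¹ = u := congrArg Subtype.val hu
  exact ⟨u, u.2, mul_inv_eq_iff_eq_mul.1 hu'⟩

/-- An element of large prime power order without fixed points in a transitive group. -/
theorem exists_big_element {W : Type*} [AddCommGroup W] [Module (ZMod 2) W] [Finite W] [Nontrivial W]
    {Γ : Type*} [Group Γ] [Finite Γ] [Group.IsSolvable Γ] {τ : Γ →* Module.End (ZMod 2) W}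
    (hinj : Function.Injective τ) (htr : ∀ v w : W, v ≠ 0 → w ≠ 0 → ∃ g : Γ, τ g v = w)
    (h2 : 2 ≤ finrank (ZMod 2) W) :
    ∃ p : ℕ, p.Prime ∧ finrank (ZMod 2) W < p ∧ ∃ x : Γ, orderOf x = p ∧ ∀ v, τ x v = v → v = 0 := by
  classical
  haveI : Fact (Nat.Prime 2) := ⟨Nat.prime_two⟩
  set n := finrank (ZMod 2) W
  by_cases h6 : n = 6
  · haveI : Fact (Nat.Prime 7) := ⟨by norm_num⟩
    obtain ⟨A, hAn, hAc, hirr⟩ := six_two hinj htr h6
    have h63 := card_dvd htr
    rw [show finrank (ZMod 2) W = 6 from h6] at h63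
    obtain ⟨x, hx⟩ := exists_prime_orderOf_dvd_card' (G := Γ) 7 (dvd_trans (by norm_num) h63)
    refine ⟨7, by norm_num, by omega, x, hx, ?_⟩
    -- x centralises A
    haveI := hAn
    haveI : Fintype A := Fintype.ofFinite A
    have hA63 : Nat.card A ∣ 63 := by
      have hs := semi_of_normal τ hinj htr A fun a ha b hb =>
        congrArg Subtype.val (hAc.commutative.is_comm.comm (⟨a, ha⟩ : A) ⟨b, hb⟩)
      have := semi_dvd τ hs (W := ⊤) fun _ _ _ _ => Submodule.mem_top
      rwa [finrank_top, show finrank (ZMod 2) W = 6 from h6] at this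
    set θ := (MulAut.conjNormal : Γ →* MulAut A) x
    have hθ : θ = 1 := by
      refine orderOf_eq_one_iff.1 (Nat.eq_one_of_dvd_coprimes (a := 7) (b := (Nat.card A).totient) ?_ ?_ ?_)
      · refine (by norm_num : Nat.Prime 7).coprime_iff_not_dvd.2 fun h => ?_
        have key : ∀ d ∈ Nat.divisors 63, ¬ 7 ∣ d.totient := by decide
        exact key _ (Nat.mem_divisors.2 ⟨hA63, by norm_num⟩) h
      · exact hx ▸ orderOf_map_dvd _ x
      · rw [← IsCyclic.card_mulAut A]
        exact orderOf_dvd_natCard θ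
    intro v hv
    have hne : τ x - 1 ≠ 0 := fun h => by
      have : x = 1 := hinj (by rw [map_one]; exact sub_eq_zero.1 h)
      rw [this, orderOf_one] at hx
      norm_num at hx
    refine inj_of_commute hirr hne ?_ ?_
    · rintro _ ⟨b, hb, rfl⟩
      refine Commute.sub_left ?_ (Commute.one_left _)
      refine Commute.map ?_ τ
      have h := congrArg Subtype.val (DFunLike.congr_fun hθ ⟨b, hb⟩)
      rw [MulAut.conjNormal_apply] at h
      exact mul_inv_eq_iff_eq_mul.1 h
    · rw [map_zero, LinearMap.sub_apply, Module.End.one_apply, hv, sub_self]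
  · obtain ⟨r, hr, hrd, hrp⟩ := Cfsg.Lib.Zsigmondy.zsigmondy 2 n one_lt_two (by omega) (fun h => h6 h.2)
      (fun h => by
        obtain ⟨-, m, hm⟩ := h
        rcases m with _ | _ | m
        · simp at hm
        · simp at hm
        · rw [pow_succ, pow_succ] at hm; have := Nat.one_le_two_pow (n := m); omega)
    haveI : Fact r.Prime := ⟨hr⟩
    have hord : ∀ d, r ∣ 2 ^ d - 1 → d = 0 ∨ n ≤ d := by
      intro d hd
      by_contra! h
      exact hrp d (Nat.pos_of_ne_zero h.1) h.2 hd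
    have hr2 : r ≠ 2 := by
      rintro rfl
      obtain ⟨j, hj⟩ : ∃ j, n = j + 1 := ⟨n - 1, by omega⟩
      rw [hj, pow_succ] at hrd
      have := Nat.one_le_two_pow (n := j)
      omega
    have hnr : n < r := by
      have hne : ((2 : ℕ) : ZMod r) ≠ 0 := fun h => hr2
        ((Nat.prime_dvd_prime_iff_eq hr Nat.prime_two).1 ((ZMod.natCast_eq_zero_iff _ _).1 h))
      have h := ZMod.pow_card_sub_one_eq_one hne
      have h2 : r ∣ 2 ^ (r - 1) - 1 := by
        rw [← ZMod.natCast_eq_zero_iff, Nat.cast_sub (Nat.one_le_pow _ _ two_pos), Nat.cast_pow, h, Nat.cast_one, sub_self]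
      rcases hord _ h2 with h3 | h3 <;> have := hr.two_le <;> omega
    obtain ⟨x, hx⟩ := exists_prime_orderOf_dvd_card' (G := Γ) r (hrd.trans (card_dvd htr))
    refine ⟨r, hr, hnr, x, hx, fun v hv => ?_⟩
    have hf : τ x ^ r = 1 := by rw [← map_pow, ← hx, pow_orderOf_eq_one, map_one]
    obtain ⟨hker, -⟩ := irr_of_order hr2 hord hf fun h => by
      have : x = 1 := hinj (h.trans (map_one τ).symm)
      rw [this, orderOf_one] at hx
      exact hr.one_lt.ne hx
    have : v ∈ LinearMap.ker (τ x - 1) := by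
      rw [LinearMap.mem_ker, LinearMap.sub_apply, Module.End.one_apply, hv, sub_self]
    rw [hker] at this
    exact (Submodule.mem_bot _).1 this

set_option maxHeartbeats 800000 in
/-- Without a normal subgroup of odd order, all 2-elements lie in the 2-core. -/
theorem sylow_le_pCore [Group.IsSolvable G] (hO : pPrimeCore 2 G = ⊥)
    (hconj : ∀ x y : G, x ≠ 1 → x ^ 2 = 1 → y ≠ 1 → y ^ 2 = 1 → IsConj x y)
    (htwo : ∃ x y : G, x ≠ y ∧ x ≠ 1 ∧ x ^ 2 = 1 ∧ y ≠ 1 ∧ y ^ 2 = 1) (S : Sylow 2 G) :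
    (S : Subgroup G) ≤ pCore 2 G := by
  classical
  haveI : Fact (Nat.Prime 2) := ⟨Nat.prime_two⟩
  obtain ⟨t₁, t₂, ht12, ht1, ht1', ht2, ht2'⟩ := htwo
  haveI : Nontrivial G := ⟨⟨t₁, 1, ht1⟩⟩
  set Q := pCore 2 G
  have hCQ : centralizer (Q : Set G) ≤ Q := centralizer_pCore_le 2 hO
  have hQ1 : Q ≠ ⊥ := fun h => fitting_ne_bot (G := G) (by rw [fitting_eq_pCore 2 hO]; exact h)
  haveI : Nontrivial Q := (Subgroup.nontrivial_iff_ne_bot _).2 hQ1
  haveI := (isPGroup_pCore (G := G) 2).center_nontrivial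
  have hcenQ : ∀ x : G, x * x = 1 → x ∈ Q ∧ ∀ u ∈ Q, u * x = x * u := by
    intro x hx
    by_cases hx1 : x = 1
    · rw [hx1]; exact ⟨Q.one_mem, fun u _ => by rw [mul_one, one_mul]⟩
    obtain ⟨c, hc⟩ := exists_ne (1 : center Q)
    obtain ⟨i, hi, hi2⟩ := Cfsg.Lib.SuzukiTwo.exists_involution ((isPGroup_pCore (G := G) 2).to_subgroup (center Q)) hc
    set e : G := (((c ^ 2 ^ i : center Q) : Q) : G)
    have he1 : e ≠ 1 := fun h => hi (Subtype.ext (Subtype.ext h))
    have he2 : e ^ 2 = 1 := by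
      have h := congrArg (fun t : center Q => ((t : Q) : G)) hi2
      simp only [pow_succ, pow_mul, Subgroup.coe_pow, OneMemClass.coe_one] at h
      simpa [e, sq, ← pow_add] using h
    obtain ⟨g, hg⟩ := isConj_iff.1 (hconj e x he1 he2 hx1 (by rw [sq]; exact hx))
    refine ⟨hg ▸ (inferInstance : Q.Normal).conj_mem e (c ^ 2 ^ i : center Q).1.2 g, fun u hu => ?_⟩
    have hu' : g⁻¹ * u * g ∈ Q := by simpa using (inferInstance : Q.Normal).conj_mem u hu g⁻¹
    have h1 : (g⁻¹ * u * g) * e = e * (g⁻¹ * u * g) :=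
      congrArg Subtype.val (mem_center_iff.1 (c ^ 2 ^ i : center Q).2 ⟨_, hu'⟩)
    rw [← hg]
    calc u * (g * e * g⁻¹) = g * ((g⁻¹ * u * g) * e) * g⁻¹ := by group
      _ = g * (e * (g⁻¹ * u * g)) * g⁻¹ := by rw [h1]
      _ = g * e * g⁻¹ * u := by group
  let V : Subgroup G :=
    { carrier := {x | x * x = 1}
      one_mem' := one_mul 1
      mul_mem' := fun {x y} hx hy => by
        show x * y * (x * y) = 1
        calc x * y * (x * y) = x * (y * x) * y := by group
          _ = x * (x * y) * y := by rw [(hcenQ x hx).2 y (hcenQ y hy).1]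
          _ = (x * x) * (y * y) := by group
          _ = 1 := by rw [hx, hy, one_mul]
      inv_mem' := fun {x} hx => by show x⁻¹ * x⁻¹ = 1; rw [← mul_inv_rev, hx, inv_one] }
  have hV : ∀ x, x ∈ V ↔ x * x = 1 := fun x => Iff.rfl
  haveI : V.Normal := ⟨fun v hv g => by
    show g * v * g⁻¹ * (g * v * g⁻¹) = 1
    calc g * v * g⁻¹ * (g * v * g⁻¹) = g * (v * v) * g⁻¹ := by group
      _ = 1 := by rw [(hV v).1 hv, mul_one, mul_inv_cancel]⟩
  have hcentral : ∀ v ∈ V, ∀ u ∈ Q, u * v = v * u := fun v hv => (hcenQ v hv).2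
  have hVc : ∀ v ∈ V, ∀ w ∈ V, v * w = w * v := fun v hv w hw => (hcenQ w hw).2 v (hcenQ v hv).1
  set C := centralizer (V : Set G) with hC
  haveI : C.Normal := by rw [hC]; infer_instance
  have hQC : Q ≤ C := fun u hu => mem_centralizer_iff.2 fun v hv => (hcentral v hv u hu).symm
  -- a nontrivial element of V is fixed by no G-invariant set of operators
  have hCne : C ≠ ⊤ := by
    intro h
    obtain ⟨g, hg⟩ := isConj_iff.1 (hconj t₁ t₂ ht1 ht1' ht2 ht2')
    have hgC : g ∈ C := h ▸ mem_top g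
    refine ht12 ?_
    rw [← hg, ← mem_centralizer_iff.1 hgC t₁ ((hV _).2 (by rw [← sq]; exact ht1')), mul_inv_cancel_right]
  haveI : Nontrivial (G ⧸ C) := QuotientGroup.nontrivial_iff.2 hCne
  obtain ⟨r, hr, hrbot⟩ : ∃ r : ℕ, r.Prime ∧ pCore r (G ⧸ C) ≠ ⊥ := by
    by_contra! h
    refine fitting_ne_bot (G := G ⧸ C) ?_
    rw [fitting_eq_iSup_pCore, eq_bot_iff]
    exact iSup_le fun p => (h p.1 p.2).le
  haveI : Fact r.Prime := ⟨hr⟩
  set π := QuotientGroup.mk' C
  have hπs := QuotientGroup.mk'_surjective C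
  set M := (pCore r (G ⧸ C)).comap π
  have hCM : C ≤ M := fun c hc => by
    show π c ∈ pCore r (G ⧸ C)
    rw [show π c = 1 from (QuotientGroup.eq_one_iff c).2 hc]
    exact one_mem _
  have hMC : ¬ M ≤ C := fun h => hrbot (by
    rw [← Subgroup.map_comap_eq_self_of_surjective hπs (pCore r (G ⧸ C)), eq_bot_iff]
    exact (Subgroup.map_mono h).trans (QuotientGroup.map_mk'_self C).le)
  obtain ⟨P⟩ := (inferInstance : Nonempty (Sylow r M))
  set R := (P : Subgroup M).map M.subtype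
  have hRM : R ≤ M := map_subtype_le _
  -- a fixed vector of M fixes everything
  have hfixM : ∀ v ∈ V, (∀ g ∈ M, g * v = v * g) → v = 1 := by
    intro v hv hfix
    by_contra hv1
    refine hMC fun m hm => mem_centralizer_iff.2 fun w hw => ?_
    by_cases hw1 : w = 1
    · rw [hw1, one_mul, mul_one]
    obtain ⟨g, hg⟩ := isConj_iff.1 (hconj v w hv1 (by rw [sq]; exact hv) hw1 (by rw [sq]; exact hw))
    have hm' : g⁻¹ * m * g ∈ M := by simpa using (inferInstance : M.Normal).conj_mem m hm g⁻¹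
    have h1 := hfix _ hm'
    rw [← hg]
    calc g * v * g⁻¹ * m = g * (v * (g⁻¹ * m * g)) * g⁻¹ := by group
      _ = g * ((g⁻¹ * m * g) * v) * g⁻¹ := by rw [h1]
      _ = m * (g * v * g⁻¹) := by group
  -- the prime is odd
  obtain ⟨e, he⟩ := IsPGroup.iff_card.1 (isPGroup_pCore (G := G ⧸ C) r)
  have hMcard : Nat.card M = Nat.card C * r ^ e := by
    have := card_comap_of_surjective hπs (pCore r (G ⧸ C))
    rw [QuotientGroup.ker_mk'] at this
    rw [← he]
    exact this
  have hRcover : ∀ m ∈ M, ∃ y ∈ R, ∃ c ∈ C, m = c * y := by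
    intro m hm
    have hmap : R.map π = pCore r (G ⧸ C) := by
      refine Subgroup.eq_of_le_of_card_ge (map_le_iff_le_comap.2 hRM) ?_
      have h1 := R.card_subgroup_dvd_card
      obtain ⟨i, hi⟩ := IsPGroup.iff_card.1 (P.2.map M.subtype)
      obtain ⟨j, hj⟩ := IsPGroup.iff_card.1 ((P.2.map M.subtype).map π)
      have hidx : ¬ r ∣ (P : Subgroup M).index := P.not_dvd_index
      have hPi := (P : Subgroup M).card_mul_index
      have hR : Nat.card (P : Subgroup M) = Nat.card R :=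
        Nat.card_congr ((P : Subgroup M).equivMapOfInjective _ M.subtype_injective).toEquiv
      have hk := R.card_mul_index
      -- the kernel of π on R has order dividing that of C
      let ψ := π.comp R.subtype
      have h2 := ψ.ker.card_mul_index
      rw [Subgroup.index_ker, show ψ.range = R.map π by rw [MonoidHom.range_comp, range_subtype]] at h2
      have h3 : Nat.card ψ.ker ∣ Nat.card C := by
        have : ψ.ker.map R.subtype ≤ C := by
          rintro _ ⟨y, hy, rfl⟩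
          exact (QuotientGroup.eq_one_iff _).1 hy
        exact (Nat.card_congr (ψ.ker.equivMapOfInjective _ R.subtype_injective).toEquiv) ▸ Subgroup.card_dvd_of_le this
      rw [he]
      obtain ⟨q, hq⟩ := h3
      rw [hR, ← h2, hMcard, hq, mul_assoc, mul_assoc] at hPi
      have h4 : Nat.card (R.map π) * (P : Subgroup M).index = q * r ^ e :=
        Nat.eq_of_mul_eq_mul_left Nat.card_pos hPi
      have h5 : r ^ e ∣ Nat.card (R.map π) :=
        (Nat.Coprime.pow_left e ((Fact.out : r.Prime).coprime_iff_not_dvd.2 hidx)).dvd_of_dvd_mul_right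
          ⟨q, h4.trans (mul_comm q _)⟩
      exact Nat.le_of_dvd Nat.card_pos h5
    obtain ⟨y, hy, hye⟩ := (hmap.symm ▸ hm : π m ∈ R.map π)
    refine ⟨y, hy, m * y⁻¹, ?_, by rw [inv_mul_cancel_right]⟩
    rw [← QuotientGroup.eq_one_iff]
    show π (m * y⁻¹) = 1
    rw [map_mul, map_inv, hye, mul_inv_cancel]
  have hfixR : ∀ v ∈ V, (∀ g ∈ R, g * v = v * g) → v = 1 := fun v hv hfix => hfixM v hv fun m hm => by
    obtain ⟨y, hy, c, hc, rfl⟩ := hRcover m hm
    exact (Commute.mul_left (show Commute c v from (mem_centralizer_iff.1 hc v hv).symm) (hfix y hy)).eq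
  have hRr : IsPGroup r R := P.2.map _
  have hr2 : r ≠ 2 := by
    rintro rfl
    let N := R ⊔ zpowers (1 : G)
    letI : MulAction R V :=
      { smul := fun g v => ⟨g * v * (g : G)⁻¹, (inferInstance : V.Normal).conj_mem v v.2 g⟩
        one_smul := fun v => Subtype.ext (show ((1 : R) : G) * v * ((1 : R) : G)⁻¹ = v by simp)
        mul_smul := fun g h v => Subtype.ext (show ((g * h : R) : G) * v * ((g * h : R) : G)⁻¹ = _ by
          rw [Subgroup.coe_mul, mul_inv_rev]
          show _ = (g : G) * ((h : G) * v * (h : G)⁻¹) * (g : G)⁻¹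
          group) }
    have hdvd : 2 ∣ Nat.card V := by
      have h1 : (⟨t₁, (hV _).2 (by rw [← sq]; exact ht1')⟩ : V) ^ 2 = 1 := Subtype.ext ht1'
      exact (orderOf_eq_prime h1 (fun h => ht1 (congrArg Subtype.val h))) ▸ orderOf_dvd_natCard _
    obtain ⟨v, hv, hv1⟩ := hRr.exists_fixed_point_of_prime_dvd_card_of_fixed_point V hdvd
      (a := (1 : V)) fun g => Subtype.ext (show (g : G) * 1 * (g : G)⁻¹ = 1 by simp)
    refine hv1 (Subtype.ext (hfixR v v.2 fun g hg => ?_).symm)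
    exact mul_inv_eq_iff_eq_mul.1 (congrArg Subtype.val (hv ⟨g, hg⟩))
  -- the normaliser of R has odd order
  have hNodd : ¬ 2 ∣ Nat.card (normalizer (R : Set G)) := by
    intro h
    obtain ⟨g, hg⟩ := exists_prime_orderOf_dvd_card' (G := normalizer (R : Set G)) 2 h
    have hg2 : (g : G) ^ 2 = 1 := by rw [← hg, ← Subgroup.orderOf_coe, pow_orderOf_eq_one]
    have hgV : (g : G) ∈ V := (hV _).2 (by rw [← sq]; exact hg2)
    have h1 : (g : G) = 1 := hfixR _ hgV fun y hy => by
      have hc : (g : G) * y * (g : G)⁻¹ * y⁻¹ ∈ V ⊓ R := by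
        refine ⟨?_, R.mul_mem ((mem_normalizer_iff.1 g.2 y).1 hy) (R.inv_mem hy)⟩
        have e : (g : G) * y * (g : G)⁻¹ * y⁻¹ = g * (y * (g : G)⁻¹ * y⁻¹) := by group
        rw [e]
        exact V.mul_mem hgV ((inferInstance : V.Normal).conj_mem _ (V.inv_mem hgV) y)
      obtain ⟨i, hi⟩ := IsPGroup.iff_card.1 hRr
      have hbot : (g : G) * y * (g : G)⁻¹ * y⁻¹ = 1 := by
        refine orderOf_eq_one_iff.1 (Nat.eq_one_of_dvd_coprimes
          (Nat.Coprime.pow_left i ((Nat.coprime_primes hr Nat.prime_two).2 hr2))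
          (hi ▸ Subgroup.orderOf_dvd_natCard R hc.2) (orderOf_dvd_of_pow_eq_one ?_))
        rw [sq]; exact hc.1
      rw [mul_inv_eq_one, mul_inv_eq_iff_eq_mul] at hbot
      exact hbot.symm
    rw [← Subgroup.orderOf_coe, h1, orderOf_one] at hg
    norm_num at hg
  -- G/C has odd order
  have hsup : normalizer (R : Set G) ⊔ M = ⊤ := Sylow.normalizer_sup_eq_top P
  have hidx : ¬ 2 ∣ C.index := by
    intro h
    rw [← Subgroup.relIndex_mul_index hCM] at h
    rcases (Nat.Prime.dvd_mul Nat.prime_two).1 h with h | h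
    · have h1 : C.relIndex M * Nat.card C = Nat.card M := by
        have := (C.subgroupOf M).card_mul_index
        rw [Nat.card_congr (subgroupOfEquivOfLe hCM).toEquiv] at this
        rw [Subgroup.relIndex, mul_comm]; exact this
      rw [hMcard, mul_comm (Nat.card C)] at h1
      rw [Nat.eq_of_mul_eq_mul_right Nat.card_pos h1] at h
      exact hr2 ((Nat.prime_dvd_prime_iff_eq Nat.prime_two hr).1 (Nat.prime_two.dvd_of_dvd_pow h)).symm
    · apply hNodd
      have h1 : M.index ∣ Nat.card (normalizer (R : Set G)) := by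
        have h2 : M.relIndex (normalizer (R : Set G)) = M.index := by
          rw [← Subgroup.relIndex_sup_right, hsup, Subgroup.relIndex_top_right]
        exact h2 ▸ Subgroup.relIndex_dvd_card M _
      exact h.trans h1
  have hSC : (S : Subgroup G) ≤ C := by
    intro t ht
    obtain ⟨i, hi⟩ := S.2 ⟨t, ht⟩
    rw [← QuotientGroup.eq_one_iff, ← orderOf_eq_one_iff]
    refine Nat.eq_one_of_dvd_coprimes (Nat.Coprime.pow_left i (Nat.prime_two.coprime_iff_not_dvd.2 hidx))
      (orderOf_dvd_of_pow_eq_one ?_) ?_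
    · rw [← QuotientGroup.mk_pow, show t ^ 2 ^ i = 1 from congrArg Subtype.val hi]
      rfl
    · rw [Subgroup.index_eq_card]
      exact orderOf_dvd_natCard _
  -- Frattini
  have hfr : ∀ g : G, ∃ c ∈ C, ∃ n ∈ normalizer ((S : Subgroup G) : Set G), g = c * n := fun g => by
    have hs := Sylow.normalizer_sup_eq_top' S hSC
    refine Cfsg.Lib.RelIndexProduct.exists_mul_of_mem_sup (X := C) ?_ (u := g) ?_
    · intro n _
      rw [mem_normalizer_iff]
      exact fun u => ⟨fun hu => (inferInstance : C.Normal).conj_mem u hu n, fun hu => by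
        simpa [mul_assoc] using (inferInstance : C.Normal).conj_mem _ hu n⁻¹⟩
    · rw [sup_comm]; exact (le_of_eq hs.symm) (mem_top g)
  -- the linear group on V
  letI : CommGroup V := { (inferInstance : Group V) with mul_comm := fun v w => Subtype.ext (hVc v v.2 w w.2) }
  have hexpV : ∀ v : Additive V, 2 • v = 0 := fun v => by
    induction v using Additive.rec with
    | ofMul v =>
      rw [← ofMul_pow, ofMul_eq_zero]
      exact Subtype.ext (by rw [Subgroup.coe_pow, sq]; exact (hV _).1 v.2)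
  letI : Module (ZMod 2) (Additive V) := AddCommGroup.zmodModule hexpV
  let cg : normalizer ((S : Subgroup G) : Set G) → V →* V := fun g =>
    MonoidHom.mk' (fun v => ⟨(g : G) * v * (g : G)⁻¹, (inferInstance : V.Normal).conj_mem v v.2 g⟩)
      fun u w => Subtype.ext (by simp only [Subgroup.coe_mul]; group)
  let σ : normalizer ((S : Subgroup G) : Set G) →* Module.End (ZMod 2) (Additive V) :=
    { toFun := fun g => (MonoidHom.toAdditive (cg g)).toZModLinearMap 2
      map_one' := LinearMap.ext fun v => by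
        induction v using Additive.rec with
        | ofMul v => exact congrArg Additive.ofMul (Subtype.ext (by simp [cg]))
      map_mul' := fun g h => LinearMap.ext fun v => by
        induction v using Additive.rec with
        | ofMul v => exact congrArg Additive.ofMul (Subtype.ext (by simp [cg, mul_assoc]; rfl)) }
  have hσ : ∀ g (v : V), σ g (Additive.ofMul v) = Additive.ofMul (cg g v) := fun g v => rfl
  haveI : Nontrivial (Additive V) := ⟨⟨Additive.ofMul ⟨t₁, (hV _).2 (by rw [← sq]; exact ht1')⟩, 0, fun h =>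
    ht1 (congrArg (fun z : Additive V => ((z.toMul : V) : G)) h)⟩⟩
  haveI : Finite (Additive V) := Finite.of_equiv _ Additive.ofMul
  set N := finrank (ZMod 2) (Additive V) with hNdef
  have hN : Nat.card V = 2 ^ N := by
    have h := Module.natCard_eq_pow_finrank (K := ZMod 2) (V := Additive V)
    rwa [Nat.card_congr Additive.toMul, Nat.card_zmod] at h
  have hN2 : 2 ≤ N := by
    by_contra hlt
    have hle : Nat.card V ≤ 2 := by
      rw [hN]
      exact le_trans (Nat.pow_le_pow_right two_pos (show N ≤ 1 by omega)) (by norm_num)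
    haveI : Fintype V := Fintype.ofFinite V
    let u₁ : V := ⟨t₁, (hV _).2 (by rw [← sq]; exact ht1')⟩
    let u₂ : V := ⟨t₂, (hV _).2 (by rw [← sq]; exact ht2')⟩
    have h3 : ({1, u₁, u₂} : Finset V).card = 3 :=
      Finset.card_eq_three.2 ⟨1, u₁, u₂, fun h => ht1 (congrArg Subtype.val h).symm,
        fun h => ht2 (congrArg Subtype.val h).symm, fun h => ht12 (congrArg Subtype.val h), rfl⟩
    have := h3 ▸ Finset.card_le_univ ({1, u₁, u₂} : Finset V)
    rw [Nat.card_eq_fintype_card] at hle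
    omega
  haveI : Finite (Module.End (ZMod 2) (Additive V)) := finite_end
  let Γ := σ.toHomUnits.range
  let ν : Γ →* Module.End (ZMod 2) (Additive V) := (Units.coeHom _).comp Γ.subtype
  have hν : Function.Injective ν := fun u w h => Subtype.ext (Units.ext h)
  have hνtr : ∀ v w : Additive V, v ≠ 0 → w ≠ 0 → ∃ g : Γ, ν g v = w := by
    intro v w hv hw
    have hne : ∀ v : Additive V, v ≠ 0 → ((v.toMul : V) : G) ≠ 1 := fun v hv h =>
      hv (Additive.toMul.injective (Subtype.ext h))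
    have h2 : ∀ v : Additive V, ((v.toMul : V) : G) ^ 2 = 1 := fun v => by rw [sq]; exact (hV _).1 (v.toMul : V).2
    obtain ⟨g, hg⟩ := isConj_iff.1 (hconj _ _ (hne v hv) (h2 v) (hne w hw) (h2 w))
    obtain ⟨c, hc, n, hn, rfl⟩ := hfr g
    refine ⟨σ.toHomUnits.rangeRestrict ⟨n, hn⟩, ?_⟩
    show σ ⟨n, hn⟩ (Additive.ofMul v.toMul) = Additive.ofMul w.toMul
    rw [hσ]
    refine congrArg Additive.ofMul (Subtype.ext ?_)
    show n * ((v.toMul : V) : G) * n⁻¹ = _
    rw [← hg]
    have hc' := mem_centralizer_iff.1 hc _ ((inferInstance : V.Normal).conj_mem _ (v.toMul : V).2 n)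
    calc n * ((v.toMul : V) : G) * n⁻¹ = n * ((v.toMul : V) : G) * n⁻¹ * c * c⁻¹ := by rw [mul_inv_cancel_right]
      _ = _ := by rw [hc']; group
  haveI : Group.IsSolvable Γ :=
    Group.isSolvable_of_surjective (f := σ.toHomUnits.rangeRestrict) (MonoidHom.rangeRestrict_surjective _)
  obtain ⟨p, hp, hNp, x, hx, hxfix⟩ := exists_big_element hν hνtr hN2
  haveI : Fact p.Prime := ⟨hp⟩
  have hp2 : p ≠ 2 := by omega
  obtain ⟨a₀, ha₀⟩ := σ.toHomUnits.rangeRestrict_surjective x
  obtain ⟨k, m, hm, hkm⟩ := Nat.exists_eq_pow_mul_and_not_dvd (orderOf_pos a₀).ne' p hp.ne_one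
  set a : G := (a₀ : G) ^ m
  have ha : a ^ p ^ k = 1 := by
    rw [← pow_mul, mul_comm, ← hkm, ← Subgroup.coe_pow, pow_orderOf_eq_one]; rfl
  have haN : a ∈ normalizer ((S : Subgroup G) : Set G) := pow_mem a₀.2 m
  have hfix : ∀ v ∈ V, a * v * a⁻¹ = v → v = 1 := by
    intro v hv hav
    have h1 : ν (x ^ m) (Additive.ofMul (⟨v, hv⟩ : V)) = Additive.ofMul (⟨v, hv⟩ : V) := by
      rw [← ha₀, ← map_pow]
      show σ (a₀ ^ m) (Additive.ofMul (⟨v, hv⟩ : V)) = _
      rw [hσ]
      exact congrArg Additive.ofMul (Subtype.ext (by simpa [cg, a] using hav))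
    obtain ⟨i, hi⟩ : ∃ i, (x ^ m) ^ i = x := by
      obtain ⟨i, hi⟩ := exists_pow_eq_self_of_coprime (x := x) (n := m)
        ((hx ▸ hp.coprime_iff_not_dvd.2 hm : Nat.Coprime (orderOf x) m).symm)
      exact ⟨i, hi⟩
    have h2 : ∀ j : ℕ, ν ((x ^ m) ^ j) (Additive.ofMul (⟨v, hv⟩ : V)) = Additive.ofMul (⟨v, hv⟩ : V) := by
      intro j
      induction j with
      | zero => rw [pow_zero, map_one]; rfl
      | succ j ih => rw [pow_succ, map_mul, Module.End.mul_apply, h1, ih]
    have h3 := hxfix _ (hi ▸ h2 i)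
    exact congrArg (fun z : Additive V => ((z.toMul : V) : G)) h3
  -- the conclusion
  set πQ := QuotientGroup.mk' Q
  have hQs := QuotientGroup.mk'_surjective Q
  set Cb := C.map πQ
  haveI : Cb.Normal := (inferInstance : C.Normal).map πQ hQs
  intro t ht
  have htC : πQ t ∈ Cb := ⟨t, hSC ht, rfl⟩
  have hcore : ∀ r, ((pCore r Cb).map Cb.subtype).Normal := fun r => by
    haveI : (pCore r Cb).Characteristic := Cfsg.Lib.Components.pCore_characteristic
    infer_instance
  have hO2 : pCore 2 Cb = ⊥ := by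
    refine Subgroup.map_injective Cb.subtype_injective ?_
    rw [Subgroup.map_bot, eq_bot_iff]
    haveI := hcore 2
    exact (le_pCore ((isPGroup_pCore 2).map Cb.subtype)).trans
      (Cfsg.Lib.HallHigman.pCore_quotient_pCore (p := 2) (G := G)).le
  -- a centralises the odd cores
  have hcentR : ∀ r : ℕ, r.Prime → r ≠ 2 → ∀ y ∈ (pCore r Cb).map Cb.subtype, Commute (πQ a) y := by
    intro r hr hr2 y hy
    haveI : Fact r.Prime := ⟨hr⟩
    haveI := hcore r
    set Rb := (pCore r Cb).map Cb.subtype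
    set K := Rb.comap πQ
    obtain ⟨e, he⟩ := IsPGroup.iff_card.1 ((isPGroup_pCore (G := Cb) r).map Cb.subtype : IsPGroup r Rb)
    obtain ⟨j, hj⟩ := IsPGroup.iff_card.1 (isPGroup_pCore (G := G) 2)
    have hKcard : Nat.card K = 2 ^ j * r ^ e := by
      have := card_comap_of_surjective hQs Rb
      rw [QuotientGroup.ker_mk'] at this
      rw [← hj, ← he]
      exact this
    letI : MulDistribMulAction G K := MulDistribMulAction.compHom K (MulAut.conjNormal : G →* MulAut K)
    let f : Equiv.Perm (Sylow r K) := MulAction.toPerm a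
    have hf : f ^ p ^ k = 1 := by
      show (MulAction.toPerm a : Equiv.Perm (Sylow r K)) ^ p ^ k = 1
      rw [← MulAction.toPermHom_apply, ← map_pow, ha, map_one]
    obtain ⟨T₀⟩ := (inferInstance : Nonempty (Sylow r K))
    have hT2 : ∃ i, Nat.card (Sylow r K) = 2 ^ i := by
      have h1 : Nat.card (Sylow r K) ∣ 2 ^ j := by
        have hc := T₀.card_dvd_index
        have h2 : r ^ e ∣ Nat.card (T₀ : Subgroup K) := T₀.pow_dvd_card_of_pow_dvd_card (hKcard ▸ dvd_mul_left _ _)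
        obtain ⟨c, hc'⟩ := h2
        have h3 := (T₀ : Subgroup K).card_mul_index
        rw [hKcard, hc', mul_assoc, mul_comm (2 ^ j)] at h3
        exact hc.trans (Dvd.intro_left c (Nat.eq_of_mul_eq_mul_left (pow_pos hr.pos e) h3))
      obtain ⟨i, -, hi⟩ := (Nat.dvd_prime_pow Nat.prime_two).1 h1
      exact ⟨i, hi⟩
    obtain ⟨T, hT⟩ : ∃ T, f T = T := by
      by_contra! hno
      haveI : IsEmpty {T : Sylow r K // f T = T} := ⟨fun T => hno T.1 T.2⟩
      have h := card_fixed_modEq f hf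
      rw [show Nat.card {T : Sylow r K // f T = T} = 0 from Nat.card_of_isEmpty] at h
      obtain ⟨i, hi⟩ := hT2
      rw [hi] at h
      exact hp2 ((Nat.prime_dvd_prime_iff_eq hp Nat.prime_two).1 (hp.dvd_of_dvd_pow (Nat.modEq_zero_iff_dvd.1 h)))
    set X := (T : Subgroup K).map K.subtype
    have hX : IsPGroup r X := T.2.map _
    have hKC : K ≤ C := by
      intro u hu
      obtain ⟨c, hc, hce⟩ := (map_subtype_le _ (show πQ u ∈ Rb from hu) : πQ u ∈ Cb)
      have h1 : c⁻¹ * u ∈ Q := QuotientGroup.eq.1 hce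
      simpa using C.mul_mem hc (hQC h1)
    have haX : ∀ u ∈ X, a * u * a⁻¹ ∈ X := by
      rintro _ ⟨u, hu, rfl⟩
      have h1 : a • u ∈ ((f T : Sylow r K) : Subgroup K) := by
        show a • u ∈ ((a • T : Sylow r K) : Subgroup K)
        exact Subgroup.smul_mem_pointwise_smul u a _ hu
      rw [hT] at h1
      exact ⟨a • u, h1, MulAut.conjNormal_apply _ _⟩
    have hmap : X.map πQ = Rb := by
      refine Subgroup.eq_of_le_of_card_ge (map_le_iff_le_comap.2 (map_subtype_le _)) ?_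
      let ψ := πQ.comp X.subtype
      have h2 := ψ.ker.card_mul_index
      rw [Subgroup.index_ker, show ψ.range = X.map πQ by rw [MonoidHom.range_comp, range_subtype]] at h2
      have h3 : ψ.ker = ⊥ := by
        rw [Subgroup.eq_bot_iff_forall]
        intro u hu
        obtain ⟨i, hi⟩ := hX u
        obtain ⟨l, hl⟩ := isPGroup_pCore (G := G) 2 ⟨(u : G), (QuotientGroup.eq_one_iff _).1 hu⟩
        refine Subtype.ext (orderOf_eq_one_iff.1 (Nat.eq_one_of_dvd_coprimes
          (Nat.Coprime.pow l i ((Nat.coprime_primes Nat.prime_two hr).2 (Ne.symm hr2)))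
          (orderOf_dvd_of_pow_eq_one (congrArg Subtype.val hl : (u : G) ^ 2 ^ l = 1))
          (orderOf_dvd_of_pow_eq_one (congrArg Subtype.val hi : (u : G) ^ r ^ i = 1))))
      rw [h3, Subgroup.card_bot, one_mul] at h2
      rw [h2, Nat.card_congr ((T : Subgroup K).equivMapOfInjective _ K.subtype_injective).symm.toEquiv, he]
      exact Nat.le_of_dvd Nat.card_pos (T.pow_dvd_card_of_pow_dvd_card (hKcard ▸ dvd_mul_left _ _))
    obtain ⟨u, hu, rfl⟩ := (hmap.symm ▸ hy : y ∈ X.map πQ)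
    exact (centralises hV hcentral hCQ hN hNp hp2 ha hfix hr2 hX ((map_subtype_le _).trans hKC) haX u hu).map πQ
  -- the commutator with a centralises the Fitting subgroup
  have hdS : t * a * t⁻¹ * a⁻¹ ∈ (S : Subgroup G) := by
    have e : t * a * t⁻¹ * a⁻¹ = t * (a * t⁻¹ * a⁻¹) := by group
    rw [e]
    exact (S : Subgroup G).mul_mem ht ((mem_normalizer_iff.1 haN _).1 ((S : Subgroup G).inv_mem ht))
  set d : Cb := ⟨πQ (t * a * t⁻¹ * a⁻¹), ⟨_, hSC hdS, rfl⟩⟩ with hd
  have hdF : ∀ r : ℕ, r.Prime → ∀ u ∈ pCore r Cb, Commute d u := by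
    intro r hr u hu
    by_cases hr2 : r = 2
    · subst hr2
      rw [hO2, mem_bot] at hu
      rw [hu]; exact Commute.one_right d
    haveI := hcore r
    have hy : (u : G ⧸ Q) ∈ (pCore r Cb).map Cb.subtype := ⟨u, hu, rfl⟩
    have h1 := hcentR r hr hr2 _ hy
    have hy' : (πQ t)⁻¹ * (u : G ⧸ Q) * πQ t ∈ (pCore r Cb).map Cb.subtype := by
      have h := (inferInstance : ((pCore r Cb).map Cb.subtype).Normal).conj_mem _ hy (πQ t)⁻¹
      rwa [inv_inv] at h
    have h2 := hcentR r hr hr2 _ hy'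
    refine Subtype.ext ?_
    show πQ (t * a * t⁻¹ * a⁻¹) * (u : G ⧸ Q) = (u : G ⧸ Q) * πQ (t * a * t⁻¹ * a⁻¹)
    have h3 : Commute (πQ t * πQ a * (πQ t)⁻¹) (u : G ⧸ Q) := by
      show πQ t * πQ a * (πQ t)⁻¹ * (u : G ⧸ Q) = (u : G ⧸ Q) * (πQ t * πQ a * (πQ t)⁻¹)
      calc πQ t * πQ a * (πQ t)⁻¹ * (u : G ⧸ Q)
          = πQ t * (πQ a * ((πQ t)⁻¹ * (u : G ⧸ Q) * πQ t)) * (πQ t)⁻¹ := by group
        _ = πQ t * ((πQ t)⁻¹ * (u : G ⧸ Q) * πQ t * πQ a) * (πQ t)⁻¹ := by rw [h2.eq]
        _ = _ := by group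
    have h4 := (h3.mul_left h1.inv_left).eq
    simpa [map_mul, map_inv] using h4
  have hd1 : d = 1 := by
    haveI : Group.IsSolvable Cb := inferInstance
    have hmem : d ∈ fittingSubgroup Cb := centralizer_fitting_le (commute_fitting hdF)
    have hle : fittingSubgroup Cb ≤ pPrimeCore 2 Cb := by
      rw [fitting_eq_iSup_pCore]
      refine iSup_le fun s => ?_
      haveI := Fact.mk s.2
      by_cases h : s.1 = 2
      · rw [h, hO2]; exact bot_le
      · exact pCore_le_pPrimeCore Nat.prime_two h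
    obtain ⟨i, hi⟩ := S.2 ⟨_, hdS⟩
    refine orderOf_eq_one_iff.1 (Nat.eq_one_of_dvd_coprimes ((coprime_card_pPrimeCore (G := Cb) 2).pow_right i)
      (Subgroup.orderOf_dvd_natCard _ (hle hmem)) (orderOf_dvd_of_pow_eq_one (Subtype.ext ?_)))
    show πQ (t * a * t⁻¹ * a⁻¹) ^ 2 ^ i = 1
    rw [← map_pow, show (t * a * t⁻¹ * a⁻¹) ^ 2 ^ i = 1 from congrArg Subtype.val hi, map_one]
  have hdQ : t * a * t⁻¹ * a⁻¹ ∈ Q := (QuotientGroup.eq_one_iff _).1 (congrArg Subtype.val hd1)
  -- a fixed element of the coset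
  have hQS : Q ≤ (S : Subgroup G) := pCore_le_sylow 2 S
  let T : Set G := (fun q => t * q) '' (Q : Set G)
  have hT : ∀ u ∈ T, a * u * a⁻¹ ∈ T := by
    rintro _ ⟨q, hq, rfl⟩
    refine ⟨t⁻¹ * (a * (t * q) * a⁻¹), ?_, by group⟩
    have e : t⁻¹ * (a * (t * q) * a⁻¹) = t⁻¹ * (t * a * t⁻¹ * a⁻¹)⁻¹ * t * (a * q * a⁻¹) := by group
    rw [e]
    refine Q.mul_mem ?_ ((inferInstance : Q.Normal).conj_mem q hq a)
    simpa using (inferInstance : Q.Normal).conj_mem _ (Q.inv_mem hdQ) t⁻¹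
  have hTco : ¬ p ∣ T.ncard := by
    rw [Set.ncard_image_of_injective _ (mul_right_injective t), ← Nat.card_coe_set_eq]
    obtain ⟨j, hj⟩ := IsPGroup.iff_card.1 (isPGroup_pCore (G := G) 2)
    intro h
    exact hp2 ((Nat.prime_dvd_prime_iff_eq hp Nat.prime_two).1 (hp.dvd_of_dvd_pow (hj ▸ h : p ∣ 2 ^ j)))
  obtain ⟨_, ⟨q, hq, rfl⟩, hu⟩ := coset_fixed ha hT hTco
  have htq : t * q = 1 := by
    by_contra hne
    obtain ⟨i, hi, hi2⟩ := Cfsg.Lib.SuzukiTwo.exists_involution S.2
      (x := ⟨t * q, (S : Subgroup G).mul_mem ht (hQS hq)⟩) (fun h => hne (congrArg Subtype.val h))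
    have hi2' : (t * q) ^ 2 ^ (i + 1) = 1 := congrArg Subtype.val hi2
    refine hi (Subtype.ext (hfix _ ((hV _).2 ?_) ?_))
    · show (t * q) ^ 2 ^ i * (t * q) ^ 2 ^ i = 1
      rw [← pow_add, ← two_mul, ← pow_succ', hi2']
    · show a * (t * q) ^ 2 ^ i * a⁻¹ = (t * q) ^ 2 ^ i
      rw [(hu.pow_right (2 ^ i)).eq, mul_inv_cancel_right]
  rw [eq_inv_of_mul_eq_one_left htq]
  exact Q.inv_mem hq

theorem homocyclic {P : Type*} [CommGroup P] [Finite P] (hP : IsPGroup 2 P)
    (htr : ∀ x y : P, x ≠ 1 → x * x = 1 → y ≠ 1 → y * y = 1 → ∃ a : MulAut P, a x = y) :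
    ∃ m r : ℕ, Nonempty (P ≃* (Fin r → Multiplicative (ZMod (2 ^ m)))) := by
  classical
  haveI : Fact (Nat.Prime 2) := ⟨Nat.prime_two⟩
  obtain ⟨ι, iι, n, hn, ⟨φ⟩⟩ := CommGroup.equiv_prod_multiplicative_zmod_of_finite P
  obtain ⟨E, hE⟩ := IsPGroup.iff_card.1 hP
  have hpow : ∀ i, ∃ k, n i = 2 ^ k := fun i => by
    have h := pow_card_eq_one' (x := φ.symm (Pi.mulSingle i (Multiplicative.ofAdd (1 : ZMod (n i)))))
    have h1 := congrArg (fun z => Multiplicative.toAdd (z i)) (congrArg φ h)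
    simp only [map_pow, MulEquiv.apply_symm_apply, Pi.pow_apply, Pi.mulSingle_eq_same, map_one, Pi.one_apply,
      toAdd_pow, toAdd_ofAdd, toAdd_one, nsmul_eq_mul, mul_one] at h1
    rw [hE] at h1
    obtain ⟨k, -, hk⟩ := (Nat.dvd_prime_pow Nat.prime_two).1 ((ZMod.natCast_eq_zero_iff _ _).1 h1)
    exact ⟨k, hk⟩
  choose k hk using hpow
  have heq : ∀ i j, k i = k j := by
    suffices h : ∀ i j, k i ≤ k j from fun i j => le_antisymm (h i j) (h j i)
    intro i j
    by_contra! hlt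
    -- involutions in both coordinates
    let x : ι → P := fun l => φ.symm (Pi.mulSingle l (Multiplicative.ofAdd ((2 ^ (k l - 1) : ℕ) : ZMod (n l))))
    have hk1 : ∀ l, 1 ≤ k l := fun l => by
      have := hn l
      rw [hk] at this
      by_contra h0
      rw [show k l = 0 by omega] at this
      norm_num at this
    have hx : ∀ l, x l ≠ 1 ∧ x l * x l = 1 := by
      intro l
      constructor
      · intro h
        rw [map_eq_one_iff φ.symm φ.symm.injective, Pi.mulSingle_eq_one_iff, ofAdd_eq_one,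
          ZMod.natCast_eq_zero_iff, hk] at h
        have := (Nat.pow_dvd_pow_iff_le_right (le_refl 2)).1 h
        have := hk1 l
        omega
      · rw [← map_mul, ← Pi.mulSingle_mul, ← ofAdd_add, ← Nat.cast_add, map_eq_one_iff φ.symm φ.symm.injective,
          Pi.mulSingle_eq_one_iff, ofAdd_eq_one, ZMod.natCast_eq_zero_iff, hk, ← two_mul, ← pow_succ']
        exact pow_dvd_pow 2 (by have := hk1 l; omega)
    obtain ⟨α, hα⟩ := htr (x i) (x j) (hx i).1 (hx i).2 (hx j).1 (hx j).2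
    -- x j is a power
    set y := α (φ.symm (Pi.mulSingle i (Multiplicative.ofAdd (1 : ZMod (n i)))))
    have hy : y ^ 2 ^ (k i - 1) = x j := by
      rw [← map_pow, ← map_pow, ← Pi.mulSingle_pow, ← ofAdd_nsmul, nsmul_eq_mul, mul_one, hα]
    have h1 := congrArg (fun z => Multiplicative.toAdd ((φ z) j)) hy
    simp only [x, map_pow, Pi.pow_apply, toAdd_pow, MulEquiv.apply_symm_apply, Pi.mulSingle_eq_same, toAdd_ofAdd,
      nsmul_eq_mul] at h1
    have hzero : ((2 ^ (k i - 1) : ℕ) : ZMod (n j)) = 0 := by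
      rw [ZMod.natCast_eq_zero_iff, hk]
      exact pow_dvd_pow 2 (by omega)
    rw [hzero, zero_mul, eq_comm, ZMod.natCast_eq_zero_iff, hk] at h1
    have := (Nat.pow_dvd_pow_iff_le_right (le_refl 2)).1 h1
    have := hk1 j
    omega
  rcases isEmpty_or_nonempty ι with hι | ⟨⟨i₀⟩⟩
  · refine ⟨0, 0, ⟨φ.trans ?_⟩⟩
    exact
      { toFun := fun _ => finZeroElim
        invFun := fun _ => isEmptyElim
        left_inv := fun _ => funext isEmptyElim
        right_inv := fun _ => funext finZeroElim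
        map_mul' := fun _ _ => funext finZeroElim }
  · refine ⟨k i₀, Fintype.card ι, ⟨φ.trans ?_⟩⟩
    have hni : ∀ i, n i = 2 ^ k i₀ := fun i => by rw [hk, heq i i₀]
    exact (MulEquiv.piCongrRight fun i =>
      AddEquiv.toMultiplicative (ZMod.ringEquivCongr (hni i)).toAddEquiv).trans
        (MulEquiv.arrowCongr (Fintype.equivFin ι) (MulEquiv.refl _))

/-- The theorem of Gaschütz and Gross. -/
theorem main (hG : Group.IsSolvable G) (S : Sylow 2 G)
    (htwo : ∃ x y : G, x ∈ (S : Subgroup G) ∧ y ∈ (S : Subgroup G) ∧ x ≠ y ∧ x ≠ 1 ∧ x ^ 2 = 1 ∧ y ≠ 1 ∧ y ^ 2 = 1)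
    (hconj : ∀ x y : G, x ≠ 1 → x ^ 2 = 1 → y ≠ 1 → y ^ 2 = 1 → IsConj x y) :
    Cfsg.PLengthLE 2 1 G ∧ ((∃ m r : ℕ, Nonempty (↥(S : Subgroup G) ≃* (Fin r → Multiplicative (ZMod (2 ^ m))))) ∨
      (¬ IsMulCommutative (S : Subgroup G) ∧ ∃ Y : Subgroup (MulAut ↥(S : Subgroup G)), Group.IsSolvable Y ∧
        ∀ x y : ↥(S : Subgroup G), x ≠ 1 → x ^ 2 = 1 → y ≠ 1 → y ^ 2 = 1 → ∃ a ∈ Y, a x = y)) := by
  classical
  haveI : Fact (Nat.Prime 2) := ⟨Nat.prime_two⟩
  set O := pPrimeCore 2 G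
  set π := QuotientGroup.mk' O
  have hs := QuotientGroup.mk'_surjective O
  have hker : (Nat.card π.ker).Coprime 2 := by rw [QuotientGroup.ker_mk']; exact coprime_card_pPrimeCore 2
  have hbot : pPrimeCore 2 (G ⧸ O) = ⊥ := by
    rw [← Subgroup.map_comap_eq_self_of_surjective hs (pPrimeCore 2 (G ⧸ O)),
      comap_pPrimeCore_of_coprime_ker hs hker]
    exact QuotientGroup.map_mk'_self O
  let S' : Sylow 2 (G ⧸ O) := S.mapSurjective hs
  have hS' : (S' : Subgroup (G ⧸ O)) = (S : Subgroup G).map π := rfl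
  have hlift : ∀ g : G ⧸ O, g ≠ 1 → g ^ 2 = 1 → ∃ x : G, x ≠ 1 ∧ x ^ 2 = 1 ∧ π x = g := by
    intro g hg1 hg2
    obtain ⟨x, rfl⟩ := hs g
    have hx2 : x ^ 2 ∈ π.ker := by rw [MonoidHom.mem_ker, map_pow]; exact hg2
    set m := Nat.card π.ker
    refine ⟨x ^ m, fun h => hg1 ?_, ?_, ?_⟩
    · have h1 : π x ^ m = 1 := by rw [← map_pow, h, map_one]
      exact orderOf_eq_one_iff.1 (Nat.eq_one_of_dvd_coprimes hker (orderOf_dvd_of_pow_eq_one h1)
        (orderOf_dvd_of_pow_eq_one hg2))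
    · rw [← pow_mul, mul_comm, pow_mul]
      exact congrArg Subtype.val (pow_card_eq_one' (x := (⟨x ^ 2, hx2⟩ : π.ker)))
    · obtain ⟨l, hl⟩ : Odd m := by
        rw [← Nat.not_even_iff_odd, even_iff_two_dvd]
        exact fun h => absurd (Nat.eq_one_of_dvd_coprimes hker h dvd_rfl) (by norm_num)
      rw [map_pow, hl, pow_add, pow_mul, hg2, one_pow, one_mul, pow_one]
  have hconj' : ∀ x y : G ⧸ O, x ≠ 1 → x ^ 2 = 1 → y ≠ 1 → y ^ 2 = 1 → IsConj x y := by
    intro x y hx hx' hy hy'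
    obtain ⟨a, ha1, ha2, rfl⟩ := hlift x hx hx'
    obtain ⟨b, hb1, hb2, rfl⟩ := hlift y hy hy'
    exact π.map_isConj (hconj a b ha1 ha2 hb1 hb2)
  have hinjS : ∀ u ∈ (S : Subgroup G), π u = 1 → u = 1 := by
    intro u hu h
    obtain ⟨i, hi⟩ := S.2 ⟨u, hu⟩
    exact orderOf_eq_one_iff.1 (Nat.eq_one_of_dvd_coprimes (hker.pow_right i)
      (Subgroup.orderOf_dvd_natCard π.ker h) (orderOf_dvd_of_pow_eq_one (congrArg Subtype.val hi : u ^ 2 ^ i = 1)))
  have htwo' : ∃ x y : G ⧸ O, x ≠ y ∧ x ≠ 1 ∧ x ^ 2 = 1 ∧ y ≠ 1 ∧ y ^ 2 = 1 := by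
    obtain ⟨x, y, hx, hy, hxy, hx1, hx2, hy1, hy2⟩ := htwo
    refine ⟨π x, π y, fun h => hxy ?_, fun h => hx1 (hinjS x hx h), by rw [← map_pow, hx2, map_one],
      fun h => hy1 (hinjS y hy h), by rw [← map_pow, hy2, map_one]⟩
    have := hinjS (x⁻¹ * y) ((S : Subgroup G).mul_mem ((S : Subgroup G).inv_mem hx) hy) (by
      rw [map_mul, map_inv, h, inv_mul_cancel])
    exact inv_mul_eq_one.1 this
  haveI := hG
  have hle := sylow_le_pCore hbot hconj' htwo' S'
  have hSQ : (S' : Subgroup (G ⧸ O)) = pCore 2 (G ⧸ O) := le_antisymm hle (pCore_le_sylow 2 S')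
  haveI hn : (S' : Subgroup (G ⧸ O)).Normal := hSQ ▸ inferInstance
  have hlen : Cfsg.PLengthLE 2 1 G :=
    Cfsg.Lib.OddP.pLengthLE_one_of_coprime_ker π hs hker (Cfsg.Lib.OddP.pLengthLE_one_of_normal_pgroup
      (S' : Subgroup (G ⧸ O)) S'.2 ((Nat.prime_two.coprime_iff_not_dvd.2 S'.not_dvd_index).symm))
  refine ⟨hlen, ?_⟩
  -- transport to S
  let e : (S : Subgroup G) ≃* (S' : Subgroup (G ⧸ O)) :=
    MulEquiv.ofBijective ((π.comp (S : Subgroup G).subtype).codRestrict (S' : Subgroup (G ⧸ O))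
      fun u => ⟨u, u.2, rfl⟩) ⟨(injective_iff_map_eq_one _).2 fun u hu =>
        Subtype.ext (hinjS u u.2 (congrArg Subtype.val hu)), by
        rintro ⟨_, u, hu, rfl⟩; exact ⟨⟨u, hu⟩, rfl⟩⟩
  let Y : Subgroup (MulAut (S : Subgroup G)) :=
    ((MulAut.congr e.symm).toMonoidHom.comp (MulAut.conjNormal : (G ⧸ O) →* MulAut (S' : Subgroup (G ⧸ O)))).range
  have hYtr : ∀ x y : ↥(S : Subgroup G), x ≠ 1 → x ^ 2 = 1 → y ≠ 1 → y ^ 2 = 1 → ∃ a ∈ Y, a x = y := by
    intro x y hx hx2 hy hy2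
    have hne : ∀ z : (S : Subgroup G), z ≠ 1 → ((e z : (S' : Subgroup (G ⧸ O))) : G ⧸ O) ≠ 1 := fun z hz h =>
      hz (e.injective ((Subtype.ext h : e z = 1).trans e.map_one.symm))
    have hsq : ∀ z : (S : Subgroup G), z ^ 2 = 1 → ((e z : (S' : Subgroup (G ⧸ O))) : G ⧸ O) ^ 2 = 1 := fun z hz => by
      rw [← Subgroup.coe_pow, ← map_pow, hz, map_one]; rfl
    obtain ⟨g, hg⟩ := isConj_iff.1 (hconj' _ _ (hne x hx) (hsq x hx2) (hne y hy) (hsq y hy2))
    refine ⟨_, ⟨g, rfl⟩, ?_⟩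
    show e.symm (MulAut.conjNormal g (e x)) = y
    rw [MulEquiv.symm_apply_eq]
    exact Subtype.ext ((MulAut.conjNormal_apply _ _).trans hg)
  by_cases hab : IsMulCommutative (S : Subgroup G)
  · left
    letI : CommGroup (S : Subgroup G) :=
      { (inferInstance : Group (S : Subgroup G)) with mul_comm := hab.is_comm.comm }
    exact homocyclic S.2 fun x y hx hx2 hy hy2 => by
      obtain ⟨a, -, ha⟩ := hYtr x y hx (by rw [sq]; exact hx2) hy (by rw [sq]; exact hy2)
      exact ⟨a, ha⟩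
  · refine Or.inr ⟨hab, Y, ?_, hYtr⟩
    exact Group.isSolvable_of_surjective (f := MonoidHom.rangeRestrict _) (MonoidHom.rangeRestrict_surjective _)

end Cfsg.Lib.OneClass
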